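import Groth.Agent.Lib.Helper16.FlatTensor.GammaTS

/-!
# `TS^n_R(A)` is generated by the elementary symmetric tensors (helper16)

General lemmas on coefficients of polynomial laws (monomial substitution, renaming, restriction
of the index set), the elementary symmetric tensors `esym`, and the theorem
`TS_eq_adjoin_esym` for flat algebras.
-/

set_option autoImplicit false

namespace Groth.Agent.Lib.Helper16.FlatTensor
open scoped TensorProduct
open Groth.Agent.Lib.Helper25.PolLawCoeff Groth.Agent.Lib.Helper16.NormLaw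
universe u

section CoeffGeneral

theorem tc_rTensor_of_monomial {A : Type*} [CommRing A] {σ τ : Type*} {N : Type*}
    [AddCommGroup N] [Module A N] (L : (σ →₀ ℕ) → (τ →₀ ℕ))
    (θ : MvPolynomial σ A →ₐ[A] MvPolynomial τ A)
    (hθ : ∀ ν, θ (MvPolynomial.monomial ν 1) = MvPolynomial.monomial (L ν) 1)
    (y : MvPolynomial σ A ⊗[A] N) :
    tc τ N (θ.toLinearMap.rTensor N y) = (tc σ N y).mapDomain L := by
  classical
  conv_lhs => rw [eq_sum_tc σ N y]
  rw [map_sum, map_sum, Finsupp.mapDomain, Finsupp.sum]
  refine Finset.sum_congr rfl fun ν _ => ?_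
  rw [LinearMap.rTensor_tmul, AlgHom.toLinearMap_apply, hθ, tc_monomial_tmul]

theorem mapDomain_apply_eq_sum {α β M : Type*} [AddCommMonoid M] [DecidableEq β] (L : α → β)
    (c : α →₀ M) (b : β) :
    (c.mapDomain L) b = ∑ a ∈ c.support with L a = b, c a := by
  rw [Finsupp.mapDomain, Finsupp.sum_apply, Finsupp.sum, Finset.sum_filter]
  refine Finset.sum_congr rfl fun a _ => ?_
  rw [Finsupp.single_apply]

variable {A : Type u} [CommRing A] {M N : Type u} [AddCommGroup M] [Module A M]
  [AddCommGroup N] [Module A N]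

/-- coefficients after a monomial substitution of the variables -/
theorem coeff_subst (F : M →ₚₗ[A] N) {σ τ : Type u} (m : σ → M) (I : Finset σ)
    (L : (σ →₀ ℕ) → (τ →₀ ℕ)) (θ : MvPolynomial σ A →ₐ[A] MvPolynomial τ A)
    (hθ : ∀ ν, θ (MvPolynomial.monomial ν 1) = MvPolynomial.monomial (L ν) 1) :
    tc τ N (F.toFun' (MvPolynomial τ A) (θ.toLinearMap.rTensor M (gen m I))) =
      (coeff F m I).mapDomain L := by
  rw [← PolynomialLaw.isCompat_apply', tc_rTensor_of_monomial L θ hθ]
  rfl

/-- coefficients along an injective renaming of the index type -/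
theorem coeff_rename (F : M →ₚₗ[A] N) {σ τ : Type u} (f : σ ↪ τ) (m : τ → M) (I : Finset σ)
    (μ : σ →₀ ℕ) :
    coeff F m (I.map f) (μ.mapDomain f) = coeff F (fun i => m (f i)) I μ := by
  classical
  have h1 : (MvPolynomial.rename f : MvPolynomial σ A →ₐ[A] MvPolynomial τ A).toLinearMap.rTensor M
      (gen (fun i => m (f i)) I) = gen m (I.map f) := by
    rw [gen, gen, map_sum, Finset.sum_map]
    refine Finset.sum_congr rfl fun i _ => ?_
    rw [LinearMap.rTensor_tmul, AlgHom.toLinearMap_apply, MvPolynomial.rename_X]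
  have h2 := coeff_subst F (fun i => m (f i)) I (Finsupp.mapDomain f) (MvPolynomial.rename f)
    (fun ν => MvPolynomial.rename_monomial f ν 1)
  rw [h1] at h2
  rw [coeff, h2, Finsupp.mapDomain_apply (Finsupp.mapDomain_injective f.injective)]

open scoped Classical in
/-- restriction of the index set -/
theorem coeff_restrict (F : M →ₚₗ[A] N) {σ : Type u} (m : σ → M) {K' K : Finset σ}
    (hK : K' ⊆ K) (ν : σ →₀ ℕ) :
    coeff F m K' ν = if ν.support ⊆ K' then coeff F m K ν else 0 := by
  classical
  set s : σ → MvPolynomial σ A := fun k => if k ∈ K' then MvPolynomial.X k else 0 with hs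
  have h1 : ∑ k ∈ K, s k ⊗ₜ[A] m k = gen m K' := by
    rw [gen, ← Finset.sum_subset hK]
    · refine Finset.sum_congr rfl fun k hk => ?_
      rw [hs]
      simp only [if_pos hk]
    · intro k _ hk
      rw [hs]
      simp only [if_neg hk, TensorProduct.zero_tmul]
  have hprod : ∀ μ : σ →₀ ℕ, (μ.prod fun i k => s i ^ k) =
      if μ.support ⊆ K' then MvPolynomial.monomial μ (1 : A) else 0 := by
    intro μ
    split_ifs with h
    · rw [← prod_X_pow_eq_monomial, Finsupp.prod, Finsupp.prod]
      refine Finset.prod_congr rfl fun i hi => ?_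
      rw [hs]
      simp only [if_pos (h hi)]
    · rw [Finset.not_subset] at h
      obtain ⟨i, hi, hiK⟩ := h
      rw [Finsupp.prod]
      refine Finset.prod_eq_zero hi ?_
      rw [hs]
      simp only [if_neg hiK]
      exact zero_pow (Finsupp.mem_support_iff.1 hi)
  rw [coeff, ← h1, toFun'_sum, map_sum, Finsupp.finsetSum_apply]
  rw [Finset.sum_eq_single ν]
  · rw [hprod]
    split_ifs
    · rw [tc_monomial_tmul, Finsupp.single_eq_same]
    · rw [TensorProduct.zero_tmul, map_zero, Finsupp.zero_apply]
  · intro μ _ hμ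
    rw [hprod]
    split_ifs
    · rw [tc_monomial_tmul, Finsupp.single_eq_of_ne hμ.symm]
    · rw [TensorProduct.zero_tmul, map_zero, Finsupp.zero_apply]
  · intro hν
    rw [Finsupp.notMem_support_iff.1 hν, TensorProduct.tmul_zero, map_zero, Finsupp.zero_apply]

theorem support_subset_of_coeff_ne_zero (F : M →ₚₗ[A] N) {σ : Type u} (m : σ → M)
    (K : Finset σ) (ν : σ →₀ ℕ) (h : coeff F m K ν ≠ 0) : ν.support ⊆ K := by
  by_contra hcon
  apply h
  rw [coeff_restrict F m (Finset.Subset.refl K) ν, if_neg hcon]

end CoeffGeneral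

section SW
variable {R : Type u} [CommRing R] {T : Type u} [CommRing T] [Algebra R T]

/-- the image of `R[X_σ] ⊗ W` in `R[X_σ] ⊗ T`, as a subalgebra -/
noncomputable def SW (σ : Type u) (W : Subalgebra R T) :
    Subalgebra R (MvPolynomial σ R ⊗[R] T) :=
  (Algebra.TensorProduct.map (AlgHom.id R (MvPolynomial σ R)) W.val).range

theorem tmul_mem_SW {σ : Type u} {W : Subalgebra R T} (s : MvPolynomial σ R) {w : T}
    (hw : w ∈ W) : s ⊗ₜ[R] w ∈ SW σ W :=
  (AlgHom.mem_range _).2 ⟨s ⊗ₜ[R] ⟨w, hw⟩, by rw [Algebra.TensorProduct.map_tmul]; rfl⟩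

theorem tc_mem_of_mem_SW {σ : Type u} {W : Subalgebra R T} {y : MvPolynomial σ R ⊗[R] T}
    (hy : y ∈ SW σ W) (ν : σ →₀ ℕ) : tc σ T y ν ∈ W := by
  obtain ⟨z, rfl⟩ := (AlgHom.mem_range _).1 hy
  clear hy
  induction z using TensorProduct.induction_on with
  | zero => rw [map_zero, map_zero, Finsupp.zero_apply]; exact W.zero_mem
  | tmul s w =>
    rw [Algebra.TensorProduct.map_tmul, tc_tmul]
    exact W.smul_mem w.2 _
  | add a b ha hb =>
    rw [map_add, map_add, Finsupp.add_apply]
    exact W.add_mem ha hb

end SW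

section Esym
variable (R : Type u) [CommRing R] (A : Type u) [CommRing A] [Algebra R A] (n : ℕ)

/-- the elementary symmetric tensor `σ_j(a)` -/
noncomputable def esym (a : A) (j : ℕ) : ⨂[R] _ : Fin n, A :=
  ∑ I ∈ (Finset.univ : Finset (Fin n)).powersetCard j,
    PiTensorProduct.tprod R (fun i : Fin n => if i ∈ I then a else (1 : A))

variable {R A n}

theorem prod_tmul_eq {S : Type*} [CommSemiring S] [Algebra R S] {B : Type*} [CommRing B]
    [Algebra R B] {ι : Type*} (t : Finset ι) (s : ι → S) (b : ι → B) :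
    ∏ i ∈ t, (s i ⊗ₜ[R] b i) = (∏ i ∈ t, s i) ⊗ₜ[R] (∏ i ∈ t, b i) := by
  classical
  induction t using Finset.induction_on with
  | empty => simp [Algebra.TensorProduct.one_def]
  | insert j t hj ih =>
    rw [Finset.prod_insert hj, Finset.prod_insert hj, Finset.prod_insert hj, ih,
      Algebra.TensorProduct.tmul_mul_tmul]

theorem prod_single_eq (a : A) (I : Finset (Fin n)) :
    ∏ i ∈ I, PiTensorProduct.singleAlgHom (R := R) (A := fun _ : Fin n => A) i a =
      PiTensorProduct.tprod R (fun i : Fin n => if i ∈ I then a else (1 : A)) := by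
  classical
  simp only [PiTensorProduct.singleAlgHom_apply, MonoidHom.mulSingle_apply]
  rw [← PiTensorProduct.tprod_prod]
  congr 1
  ext i
  rw [Finset.prod_apply]
  simp only [Pi.mulSingle_apply]
  rw [Finset.prod_ite_eq]

theorem tpowLaw_one_add (S : Type u) [CommSemiring S] [Algebra R S] (s : S) (a : A) :
    (SymTen.tpowLaw R A n).law.toFun' S (1 + s ⊗ₜ[R] a) =
      ∑ j ∈ Finset.range (n + 1), (s ^ j) ⊗ₜ[R] esym R A n a j := by
  classical
  rw [SymTen.tpowLaw, PolLaw.MulLaw.prodMap_toFun']
  simp only [map_add, map_one, Algebra.TensorProduct.map_tmul, AlgHom.id_apply]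
  rw [Finset.prod_one_add, Finset.sum_powerset, Finset.card_univ, Fintype.card_fin]
  refine Finset.sum_congr rfl fun j _ => ?_
  rw [esym, TensorProduct.tmul_sum]
  refine Finset.sum_congr rfl fun I hI => ?_
  rw [prod_tmul_eq, Finset.prod_const, (Finset.mem_powersetCard.1 hI).2, prod_single_eq]

end Esym

section Comb
set_option linter.unusedSectionVars false
variable {τ : Type*} [DecidableEq τ]

/-- the indicator exponent of a finite set of variables -/
noncomputable def ind (J : Finset τ) : τ →₀ ℕ := ∑ j ∈ J, Finsupp.single j 1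

theorem ind_apply (J : Finset τ) (j : τ) : ind J j = if j ∈ J then 1 else 0 := by
  rw [ind, Finsupp.finsetSum_apply]
  simp only [Finsupp.single_apply]
  rw [Finset.sum_ite_eq']

theorem degree_ind (J : Finset τ) : (ind J).degree = J.card := by
  rw [ind, map_sum]
  simp [Finsupp.degree_single]

/-- the exponent of the monomial obtained from `∏_J (X^J)^{l J}` -/
noncomputable def Lfun (l : Finset τ →₀ ℕ) : τ →₀ ℕ := l.sum fun J e => e • ind J

theorem degree_Lfun (l : Finset τ →₀ ℕ) : (Lfun l).degree = l.sum fun J e => e * J.card := by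
  rw [Lfun, map_finsuppSum]
  congr
  funext J e
  rw [map_nsmul, degree_ind, smul_eq_mul]

theorem Lfun_apply (l : Finset τ →₀ ℕ) (j : τ) :
    Lfun l j = l.sum fun J e => if j ∈ J then e else 0 := by
  rw [Lfun, Finsupp.sum_apply]
  congr
  funext J e
  rw [Finsupp.smul_apply, ind_apply, smul_eq_mul]
  split_ifs <;> simp

theorem Lfun_mapDomain_singleton (ν : τ →₀ ℕ) :
    Lfun (ν.mapDomain (fun j => ({j} : Finset τ))) = ν := by
  rw [Lfun, Finsupp.sum_mapDomain_index (by intro; simp) (by intro _ _ _; rw [add_smul])]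
  conv_rhs => rw [← Finsupp.sum_single ν]
  congr
  funext j e
  rw [ind, Finset.sum_singleton, Finsupp.smul_single, smul_eq_mul, mul_one]

theorem monomial_Lfun (R : Type*) [CommSemiring R] (l : Finset τ →₀ ℕ) :
    (MvPolynomial.monomial (Lfun l) (1 : R)) =
      l.prod fun J e => (∏ j ∈ J, (MvPolynomial.X j : MvPolynomial τ R)) ^ e := by
  rw [Lfun, MvPolynomial.monomial_finsupp_sum_index, MvPolynomial.C_1, one_mul]
  congr
  funext J e
  rw [← one_pow e, ← MvPolynomial.monomial_pow, ind, MvPolynomial.monomial_sum_one]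
  rfl

theorem degree_lt_degree_Lfun (l : Finset τ →₀ ℕ) (h1 : ∀ J ∈ l.support, 1 ≤ J.card)
    (h2 : ∃ J ∈ l.support, 2 ≤ J.card) : l.degree < (Lfun l).degree := by
  rw [degree_Lfun, Finsupp.degree_apply, Finsupp.sum]
  obtain ⟨J₁, hJ₁, h⟩ := h2
  refine Finset.sum_lt_sum (fun J hJ => ?_) ⟨J₁, hJ₁, ?_⟩
  · exact Nat.le_mul_of_pos_right _ (h1 J hJ)
  · have := Nat.pos_of_ne_zero (Finsupp.mem_support_iff.1 hJ₁)
    nlinarith

theorem degree_eq_degree_Lfun (l : Finset τ →₀ ℕ) (h : ∀ J ∈ l.support, J.card = 1) :
    l.degree = (Lfun l).degree := by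
  rw [degree_Lfun, Finsupp.degree_apply, Finsupp.sum]
  refine Finset.sum_congr rfl fun J hJ => ?_
  rw [h J hJ, mul_one]

theorem apply_singleton_eq_Lfun (l : Finset τ →₀ ℕ) (h : ∀ J ∈ l.support, J.card = 1) (j : τ) :
    l {j} = Lfun l j := by
  rw [Lfun_apply, Finsupp.sum]
  rw [Finset.sum_congr rfl (g := fun J => if J = {j} then l J else 0)]
  · rw [Finset.sum_ite_eq']
    split_ifs with h'
    · rfl
    · exact Finsupp.notMem_support_iff.1 h'
  · intro J hJ
    obtain ⟨i, rfl⟩ := Finset.card_eq_one.1 (h J hJ)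
    by_cases hij : j = i
    · subst hij
      simp
    · rw [if_neg (by simpa using hij), if_neg]
      intro hc
      exact hij (Finset.singleton_injective hc).symm

end Comb

section Main
variable {R : Type u} [CommRing R] {A : Type u} [CommRing A] [Algebra R A] {n : ℕ}

theorem toFun'_prod {C : Type u} [CommRing C] [Algebra R C] {d : ℕ} (γ : PolLaw.MulLaw R A C d)
    (S : Type u) [CommSemiring S] [Algebra R S] {ι : Type*} (K : Finset ι) (x : ι → S ⊗[R] A) :
    γ.law.toFun' S (∏ i ∈ K, x i) = ∏ i ∈ K, γ.law.toFun' S (x i) := by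
  classical
  induction K using Finset.induction_on with
  | empty => rw [Finset.prod_empty, Finset.prod_empty]; exact (γ.mult S).1
  | insert j t hj ih => rw [Finset.prod_insert hj, Finset.prod_insert hj, (γ.mult S).2, ih]

theorem degree_option {α : Type*} (l : Option α →₀ ℕ) : l.degree = l none + l.some.degree := by
  rw [Finsupp.degree_apply, Finsupp.degree_apply]
  exact Finsupp.sum_option_index l (fun _ e => e) (fun _ => rfl) (fun _ _ _ => rfl)

variable (R A n) in
/-- the subalgebra generated by the elementary symmetric tensors -/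
noncomputable def Adj : Subalgebra R (⨂[R] _ : Fin n, A) :=
  Algebra.adjoin R {t | ∃ (a : A) (j : ℕ), t = esym R A n a j}

theorem esym_mem_Adj (a : A) (j : ℕ) : esym R A n a j ∈ Adj R A n :=
  Algebra.subset_adjoin ⟨a, j, rfl⟩

theorem tpowLaw_prod_mem_SW {τ : Type u} (g : τ → A) (K : Finset τ) :
    (SymTen.tpowLaw R A n).law.toFun' (MvPolynomial τ R)
      (∏ j ∈ K, (1 + (MvPolynomial.X j : MvPolynomial τ R) ⊗ₜ[R] g j)) ∈ SW τ (Adj R A n) := by
  rw [toFun'_prod]
  refine Subalgebra.prod_mem _ fun j _ => ?_
  rw [tpowLaw_one_add]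
  exact Subalgebra.sum_mem _ fun i _ => tmul_mem_SW _ (esym_mem_Adj (g j) i)

/-- the family `(1, g)` indexed by `Option τ` -/
def fam1 {τ : Type u} (g : τ → A) : Option τ → A := fun o => o.elim 1 g

/-- the index set `{none} ∪ some '' K` -/
def optSet {τ : Type u} (K : Finset τ) : Finset (Option τ) :=
  Finset.cons none (K.map ⟨some, Option.some_injective τ⟩) (by simp)

variable (R) in
/-- the substitution `X_none ↦ 1`, `X_J ↦ ∏_{j ∈ J} X_j` -/
noncomputable def sH {τ : Type u} : Option (Finset τ) → MvPolynomial τ R :=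
  fun o => o.elim 1 fun J => ∏ j ∈ J, MvPolynomial.X j

theorem aeval_sH_monomial {τ : Type u} [DecidableEq τ] (l : Option (Finset τ) →₀ ℕ) :
    (MvPolynomial.aeval (sH R) : MvPolynomial (Option (Finset τ)) R →ₐ[R] MvPolynomial τ R)
      (MvPolynomial.monomial l 1) = MvPolynomial.monomial (Lfun l.some) 1 := by
  rw [MvPolynomial.aeval_monomial, map_one, one_mul,
    Finsupp.prod_option_index _ _ (by intro; simp) (by intro _ _ _; rw [pow_add]), monomial_Lfun]
  simp [sH]

theorem rTensor_gen_famH {τ : Type u} [DecidableEq τ] (g : τ → A) (K : Finset τ) :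
    (MvPolynomial.aeval (sH R) :
        MvPolynomial (Option (Finset τ)) R →ₐ[R] MvPolynomial τ R).toLinearMap.rTensor A
      (gen (fam1 fun J : Finset τ => ∏ j ∈ J, g j) (optSet (K.powerset.erase ∅))) =
      ∏ j ∈ K, (1 + (MvPolynomial.X j : MvPolynomial τ R) ⊗ₜ[R] g j) := by
  rw [rTensor_aeval_gen, optSet, Finset.sum_cons, Finset.sum_map,
    Finset.prod_one_add, ← Finset.add_sum_erase _ _ (Finset.empty_mem_powerset K)]
  congr 1
  refine Finset.sum_congr rfl fun J _ => ?_
  rw [prod_tmul_eq]
  rfl

/-- the embedding `none ↦ none`, `some j ↦ some {j}` -/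
def fEmb (τ : Type u) : Option τ ↪ Option (Finset τ) :=
  ⟨Option.map (fun j => ({j} : Finset τ)), Option.map_injective Finset.singleton_injective⟩

theorem fEmb_none (τ : Type u) : fEmb τ none = none := rfl
theorem fEmb_some (τ : Type u) (j : τ) : fEmb τ (some j) = some {j} := rfl

theorem some_notMem_range_fEmb {τ : Type u} {J : Finset τ} (hJ : ¬ ∃ j, J = {j}) :
    some J ∉ Set.range (fEmb τ) := by
  rintro ⟨o, ho⟩
  cases o with
  | none => rw [fEmb_none] at ho; cases ho
  | some j =>
    rw [fEmb_some] at ho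
    exact hJ ⟨j, (Option.some_injective _ ho).symm⟩

/-- **Key induction**: the coefficients of the tensor power law at a family `(1, g)` lie in the
subalgebra generated by the elementary symmetric tensors. -/
theorem coeff_fam1_mem_Adj : ∀ (m : ℕ) (τ : Type u) (g : τ → A) (K : Finset τ)
    (μ : Option τ →₀ ℕ), μ.some.degree ≤ m →
    coeff (SymTen.tpowLaw R A n).law (fam1 g) (optSet K) μ ∈ Adj R A n := by
  intro m
  induction m using Nat.strong_induction_on with
  | _ m ih =>
  intro τ g K μ hμ
  classical
  set γ := SymTen.tpowLaw R A n with hγ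
  by_cases hc0 : coeff γ.law (fam1 g) (optSet K) μ = 0
  · rw [hc0]; exact Subalgebra.zero_mem _
  have hdeg : μ.degree = n := coeff_degree γ.law γ.homog (fam1 g) (optSet K) μ hc0
  have hsupp : μ.support ⊆ optSet K := support_subset_of_coeff_ne_zero γ.law _ _ _ hc0
  set G : Finset τ → A := fun J => ∏ j ∈ J, g j with hG
  set K' : Finset (Finset τ) := K.powerset.erase ∅ with hK'
  set c := coeff γ.law (fam1 G) (optSet K') with hc
  set Lt : (Option (Finset τ) →₀ ℕ) → (τ →₀ ℕ) := fun l => Lfun l.some with hLt
  -- step 1: the sum over the fibre of `Lt` lies in `Adj`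
  have hsum : ∑ l ∈ c.support with Lt l = μ.some, c l ∈ Adj R A n := by
    have hmem := tpowLaw_prod_mem_SW (R := R) (n := n) g K
    rw [← rTensor_gen_famH g K] at hmem
    have h1 := tc_mem_of_mem_SW hmem μ.some
    rw [coeff_subst γ.law (fam1 G) (optSet K') Lt (MvPolynomial.aeval (sH R)) aeval_sH_monomial,
      mapDomain_apply_eq_sum] at h1
    exact h1
  -- the leading exponent
  set f := fEmb τ with hf
  set l₀ := μ.mapDomain f with hl₀
  have hl₀some : l₀.some = μ.some.mapDomain (fun j => ({j} : Finset τ)) := by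
    ext J
    rw [Finsupp.some_apply]
    by_cases hJ : ∃ j, J = {j}
    · obtain ⟨j, rfl⟩ := hJ
      rw [Finsupp.mapDomain_apply Finset.singleton_injective, Finsupp.some_apply]
      exact Finsupp.mapDomain_apply f.injective μ (some j)
    · rw [Finsupp.mapDomain_of_notMem_range _ _ (some_notMem_range_fEmb hJ),
        Finsupp.mapDomain_of_notMem_range]
      rintro ⟨j, rfl⟩
      exact hJ ⟨j, rfl⟩
  have hLl₀ : Lt l₀ = μ.some := by
    simp only [hLt]
    rw [hl₀some, Lfun_mapDomain_singleton]
  have hl₀none : l₀ none = μ none := Finsupp.mapDomain_apply f.injective μ none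
  -- lower terms
  have hlow : ∀ l ∈ c.support.filter (fun l => Lt l = μ.some), l ≠ l₀ → c l ∈ Adj R A n := by
    intro l hl hne
    rw [Finset.mem_filter] at hl
    obtain ⟨hlsupp, hLl⟩ := hl
    have hcl : c l ≠ 0 := Finsupp.mem_support_iff.1 hlsupp
    have hldeg : l.degree = n := coeff_degree γ.law γ.homog _ _ l hcl
    have hlK : l.support ⊆ optSet K' := support_subset_of_coeff_ne_zero γ.law _ _ _ hcl
    have hLl' : Lfun l.some = μ.some := hLl
    have hpos : ∀ J ∈ l.some.support, 1 ≤ J.card := by
      intro J hJ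
      have h1 : some J ∈ l.support := by
        rw [Finsupp.mem_support_iff] at hJ ⊢
        exact hJ
      have h2 := hlK h1
      simp only [optSet, hK', Finset.mem_cons, reduceCtorEq, Finset.mem_map,
        Finset.mem_erase, Finset.mem_powerset, Function.Embedding.coeFn_mk, Option.some.injEq,
        exists_eq_right, false_or] at h2
      exact Finset.card_pos.2 (Finset.nonempty_iff_ne_empty.2 h2.1)
    by_cases hbig : ∃ J ∈ l.some.support, 2 ≤ J.card
    · have hlt := degree_lt_degree_Lfun l.some hpos hbig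
      rw [hLl'] at hlt
      exact ih l.some.degree (lt_of_lt_of_le hlt hμ) (Finset τ) G K' l le_rfl
    · exfalso
      apply hne
      push Not at hbig
      have hone : ∀ J ∈ l.some.support, J.card = 1 := fun J hJ =>
        le_antisymm (Nat.lt_succ_iff.1 (hbig J hJ)) (hpos J hJ)
      ext o
      cases o with
      | none =>
        have h1 : l.degree = l none + l.some.degree := degree_option l
        have h2 : μ.degree = μ none + μ.some.degree := degree_option μ
        have h3 : l.some.degree = μ.some.degree := by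
          rw [degree_eq_degree_Lfun l.some hone, hLl']
        rw [hl₀none]
        omega
      | some J =>
        by_cases hJ : ∃ j, J = {j}
        · obtain ⟨j, rfl⟩ := hJ
          have h1 := apply_singleton_eq_Lfun l.some hone j
          rw [Finsupp.some_apply, hLl', Finsupp.some_apply] at h1
          rw [h1]
          exact (Finsupp.mapDomain_apply f.injective μ (some j)).symm
        · have h1 : l (some J) = 0 := by
            by_contra h
            have hJs : J ∈ l.some.support := Finsupp.mem_support_iff.2 h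
            exact hJ (Finset.card_eq_one.1 (hone J hJs))
          rw [h1]
          exact (Finsupp.mapDomain_of_notMem_range _ _ (some_notMem_range_fEmb hJ)).symm
  -- the leading coefficient
  have hlead : c l₀ ∈ Adj R A n := by
    by_cases hT : l₀ ∈ c.support.filter (fun l => Lt l = μ.some)
    · have h1 := Finset.add_sum_erase _ (fun l => c l) hT
      have h2 : c l₀ = (∑ l ∈ c.support with Lt l = μ.some, c l) -
          ∑ l ∈ (c.support.filter (fun l => Lt l = μ.some)).erase l₀, c l :=
        eq_sub_of_add_eq h1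
      rw [h2]
      exact Subalgebra.sub_mem _ hsum (Subalgebra.sum_mem _ fun l hl =>
        hlow l (Finset.mem_of_mem_erase hl) (Finset.ne_of_mem_erase hl))
    · rw [Finset.mem_filter, not_and] at hT
      have h1 : l₀ ∉ c.support := fun h => hT h hLl₀
      rw [Finsupp.notMem_support_iff.1 h1]
      exact Subalgebra.zero_mem _
  -- identification
  have hid : coeff γ.law (fam1 g) (optSet K) μ = c l₀ := by
    have h1 := coeff_rename γ.law f (fam1 G) (optSet K) μ
    have h2 : (fun i => fam1 G (f i)) = fam1 g := by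
      funext o
      cases o with
      | none => rfl
      | some j =>
        show ∏ i ∈ ({j} : Finset τ), g i = g j
        rw [Finset.prod_singleton]
    rw [h2] at h1
    have hsub : (optSet K).map f ⊆ optSet K' := by
      intro x hx
      rw [Finset.mem_map] at hx
      obtain ⟨y, hy, rfl⟩ := hx
      cases y with
      | none => rw [hf, fEmb_none]; exact Finset.mem_cons_self _ _
      | some j =>
        rw [hf, fEmb_some]
        have hjK : j ∈ K := by
          simpa [optSet] using hy
        refine Finset.mem_cons.2 (Or.inr (Finset.mem_map_of_mem _ ?_))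
        rw [hK', Finset.mem_erase, Finset.mem_powerset]
        exact ⟨Finset.singleton_ne_empty j, Finset.singleton_subset_iff.2 hjK⟩
    have h3 := coeff_restrict γ.law (fam1 G) hsub l₀
    have h4 : l₀.support ⊆ (optSet K).map f := by
      refine Finsupp.mapDomain_support.trans ?_
      intro x hx
      rw [Finset.mem_image] at hx
      obtain ⟨y, hy, rfl⟩ := hx
      exact Finset.mem_map_of_mem f (hsupp hy)
    rw [if_pos h4] at h3
    rw [← h1, h3]
  rw [hid]
  exact hlead

/-- all coefficients of the tensor power law lie in the subalgebra generated by the elementary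
symmetric tensors -/
theorem coeff_mem_Adj {σ : Type u} (m : σ → A) (I : Finset σ) (ν : σ →₀ ℕ) :
    coeff (SymTen.tpowLaw R A n).law m I ν ∈ Adj R A n := by
  classical
  let a : σ → Option σ → R := fun i k => if k = some i then 1 else 0
  have hm : ∀ i ∈ I, m i = ∑ k ∈ optSet I, a i k • fam1 m k := by
    intro i hi
    rw [Finset.sum_eq_single (some i)]
    · simp [a, fam1]
    · intro k _ hk
      simp [a, hk]
    · intro h
      exfalso
      apply h
      simp [optSet, hi]
  rw [coeff_congr _ I hm]
  have hmem := coeff_linearCombination_mem (SymTen.tpowLaw R A n).law (fam1 m) (optSet I) a I ν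
  have hspan : Submodule.span R (Set.range fun μ : Option σ →₀ ℕ =>
      coeff (SymTen.tpowLaw R A n).law (fam1 m) (optSet I) μ) ≤
      Subalgebra.toSubmodule (Adj R A n) := by
    rw [Submodule.span_le]
    rintro _ ⟨μ, rfl⟩
    exact coeff_fam1_mem_Adj μ.some.degree σ m I μ le_rfl
  exact hspan hmem

theorem cs_le_Adj : cs A n ≤ Subalgebra.toSubmodule (Adj R A n) := by
  refine Submodule.span_le.2 ?_
  rintro _ ⟨σ, m, I, ν, rfl⟩
  exact coeff_mem_Adj m I ν

theorem esym_mem_TS (a : A) (j : ℕ) : esym R A n a j ∈ SymTen.TS R A n := by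
  classical
  intro σ
  rw [← SymTen.perm_apply, esym, map_sum]
  simp only [SymTen.perm_tprod]
  refine Finset.sum_bij (fun I _ => I.map σ.toEmbedding) ?_ ?_ ?_ ?_
  · intro I hI
    rw [Finset.mem_powersetCard] at hI ⊢
    exact ⟨Finset.subset_univ _, by rw [Finset.card_map]; exact hI.2⟩
  · intro I _ I' _ h
    exact Finset.map_injective _ h
  · intro I hI
    refine ⟨I.map σ.symm.toEmbedding, ?_, ?_⟩
    · rw [Finset.mem_powersetCard] at hI ⊢
      exact ⟨Finset.subset_univ _, by rw [Finset.card_map]; exact hI.2⟩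
    · ext i
      simp [Finset.mem_map_equiv]
  · intro I _
    congr 1
    ext i
    simp [Finset.mem_map_equiv]

/-- **`TS^n_R(A)` is generated by the elementary symmetric tensors** when `A` is flat. -/
theorem TS_eq_Adj [Module.Flat R A] : SymTen.TS R A n = Adj R A n := by
  apply le_antisymm
  · intro t ht
    exact cs_le_Adj (mem_cs_of_mem_TS_of_flat ht)
  · refine Algebra.adjoin_le ?_
    rintro _ ⟨a, j, rfl⟩
    exact esym_mem_TS a j

end Main

end Groth.Agent.Lib.Helper16.FlatTensor
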