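import Mathlib

/-!
# Vanishing of tensors in tensor powers of flat modules (helper16)

A Lazard-type statement without colimits: if `g : F → M` is a linear map from a finite free
module to a flat module and finitely many tensors `X ∈ ⨂ F` die in `⨂ M`, then `g` factors
through a finite free module `F → R^k → M` such that the `X` already die in `⨂ R^k`
(`exists_factorization_of_map_eq_zero`). The heterogeneous version (`factProp_of_finite`) allows a
different module in every slot.
-/

set_option autoImplicit false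

namespace Groth.Agent.Lib.Helper16.FlatTensor
open scoped TensorProduct
universe u

variable {R : Type u} [CommRing R]

section Nat
variable {ι : Type} {M N : ι → Type u} [∀ i, AddCommGroup (M i)]
  [∀ i, Module R (M i)] [∀ i, AddCommGroup (N i)] [∀ i, Module R (N i)]

/-- naturality of slot extraction -/
theorem equivCompl_map [DecidableEq ι] (i₀ : ι) (f : ∀ i, M i →ₗ[R] N i) (x : ⨂[R] i, M i) :
    PiTensorProduct.equivPiTensorComplSingletonTensor R N i₀ (PiTensorProduct.map f x) =
      TensorProduct.map (PiTensorProduct.map (fun i : ({i₀}ᶜ : Set ι) => f i)) (f i₀)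
        (PiTensorProduct.equivPiTensorComplSingletonTensor R M i₀ x) := by
  induction x using PiTensorProduct.induction_on with
  | smul_tprod r v =>
    rw [map_smul, map_smul, map_smul, map_smul, PiTensorProduct.map_tprod,
      PiTensorProduct.equivPiTensorComplSingletonTensor_tprod,
      PiTensorProduct.equivPiTensorComplSingletonTensor_tprod, TensorProduct.map_tmul,
      PiTensorProduct.map_tprod]
    rfl
  | add x y hx hy => simp only [map_add, hx, hy]

theorem eq_zero_of_map_eq_zero_of_isEmpty [IsEmpty ι] (f : ∀ i, M i →ₗ[R] N i)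
    (x : ⨂[R] i, M i) (h : PiTensorProduct.map f x = 0) : x = 0 := by
  have key : ∀ x : ⨂[R] i, M i, PiTensorProduct.isEmptyEquiv ι (PiTensorProduct.map f x) =
      PiTensorProduct.isEmptyEquiv ι x := by
    intro x
    induction x using PiTensorProduct.induction_on with
    | smul_tprod r v =>
      rw [map_smul, map_smul, map_smul, PiTensorProduct.map_tprod,
        PiTensorProduct.isEmptyEquiv_apply_tprod, PiTensorProduct.isEmptyEquiv_apply_tprod]
    | add x y hx hy => simp only [map_add, hx, hy]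
  have h1 := key x
  rw [h, map_zero] at h1
  exact (PiTensorProduct.isEmptyEquiv ι).injective (by rw [← h1, map_zero])

end Nat

section Binary
variable {T T' F₀ M₀ : Type u} [AddCommGroup T] [Module R T] [AddCommGroup T'] [Module R T']
  [AddCommGroup F₀] [Module R F₀] [AddCommGroup M₀] [Module R M₀]

/-- the equational criterion: killing a tensor by factoring the map in the flat slot -/
theorem exists_factor_right [Module.Free R F₀] [Module.Finite R F₀] [Module.Flat R M₀]
    (g₀ : F₀ →ₗ[R] M₀) (X₁ : T ⊗[R] F₀) (h : TensorProduct.map LinearMap.id g₀ X₁ = 0) :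
    ∃ (k : ℕ) (a₀ : F₀ →ₗ[R] (Fin k →₀ R)) (y₀ : (Fin k →₀ R) →ₗ[R] M₀),
      g₀ = y₀ ∘ₗ a₀ ∧ TensorProduct.map LinearMap.id a₀ X₁ = 0 := by
  classical
  let b := Module.Free.chooseBasis R F₀
  obtain ⟨t, ht⟩ := TensorProduct.eq_repr_basis_right b X₁
  have ht' : X₁ = ∑ p, t p ⊗ₜ[R] b p := by
    rw [← ht, Finsupp.sum_fintype]
    intro i
    exact TensorProduct.zero_tmul _ _
  have h2 : ∑ p, t p ⊗ₜ[R] g₀ (b p) = 0 := by
    rw [ht', map_sum] at h
    simpa using h
  obtain ⟨k, a, y, hy, ha⟩ :=
    TensorProduct.vanishesTrivially_of_sum_tmul_eq_zero_of_rTensor_injective R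
      (Module.Flat.rTensor_preserves_injective_linearMap _ (Submodule.injective_subtype _)) h2
  let a₀ : F₀ →ₗ[R] (Fin k →₀ R) := b.constr R (fun p => Finsupp.equivFunOnFinite.symm (a p))
  let y₀ : (Fin k →₀ R) →ₗ[R] M₀ := Finsupp.linearCombination R y
  have ha₀ : ∀ p, a₀ (b p) = Finsupp.equivFunOnFinite.symm (a p) := fun p =>
    Module.Basis.constr_basis b R _ p
  refine ⟨k, a₀, y₀, ?_, ?_⟩
  · refine b.ext fun p => ?_
    have hyp : g₀ (b p) = ∑ j, a p j • y j := hy p
    rw [LinearMap.comp_apply, ha₀, hyp, Finsupp.linearCombination_apply, Finsupp.sum_fintype]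
    · rfl
    · intro j
      exact zero_smul _ _
  · rw [ht', map_sum]
    have h3 : ∀ p, TensorProduct.map LinearMap.id a₀ (t p ⊗ₜ[R] b p) =
        ∑ j, (a p j • t p) ⊗ₜ[R] Finsupp.single j (1 : R) := by
      intro p
      rw [TensorProduct.map_tmul, LinearMap.id_apply, ha₀]
      have : (Finsupp.equivFunOnFinite.symm (a p) : Fin k →₀ R) =
          ∑ j, a p j • Finsupp.single j (1 : R) := by
        ext j'
        simp [Finsupp.single_apply]
      rw [this, TensorProduct.tmul_sum]
      refine Finset.sum_congr rfl fun j _ => ?_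
      rw [TensorProduct.tmul_smul, TensorProduct.smul_tmul']
    simp_rw [h3]
    rw [Finset.sum_comm]
    refine Finset.sum_eq_zero fun j _ => ?_
    rw [← TensorProduct.sum_tmul, ha j, TensorProduct.zero_tmul]

/-- components of a tensor in `T ⊗ R^k` which dies under `G ⊗ id` die under `G` -/
theorem exists_repr_of_map_eq_zero (G : T →ₗ[R] T') (k : ℕ) (X₂ : T ⊗[R] (Fin k →₀ R))
    (h : TensorProduct.map G LinearMap.id X₂ = 0) :
    ∃ c : Fin k → T, X₂ = ∑ j, c j ⊗ₜ[R] Finsupp.single j (1 : R) ∧ ∀ j, G (c j) = 0 := by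
  classical
  let bk : Module.Basis (Fin k) R (Fin k →₀ R) := Finsupp.basisSingleOne
  obtain ⟨c, hc⟩ := TensorProduct.eq_repr_basis_right bk X₂
  have hc' : X₂ = ∑ j, c j ⊗ₜ[R] Finsupp.single j (1 : R) := by
    rw [← hc, Finsupp.sum_fintype]
    · simp [bk]
    · intro i
      exact TensorProduct.zero_tmul _ _
  refine ⟨c, hc', ?_⟩
  have h1 : ((c.mapRange G (map_zero G)).sum fun j m => m ⊗ₜ[R] bk j) = 0 := by
    rw [Finsupp.sum_fintype]
    · rw [hc', map_sum] at h
      simpa [bk] using h
    · intro i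
      exact TensorProduct.zero_tmul _ _
  have h2 := TensorProduct.sum_tmul_basis_right_eq_zero bk _ h1
  intro j
  have := DFunLike.congr_fun h2 j
  simpa using this

end Binary

section Het

/-- The heterogeneous factorization property for the index type `ι`: a tensor of finite free
modules which dies in the tensor product of flat modules already dies after factoring every map
through a (common) finite free module. -/
def FactProp (R : Type u) [CommRing R] (ι : Type) : Prop :=
  ∀ (F M : ι → Type u) [∀ i, AddCommGroup (F i)] [∀ i, Module R (F i)]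
    [∀ i, Module.Free R (F i)] [∀ i, Module.Finite R (F i)] [∀ i, AddCommGroup (M i)]
    [∀ i, Module R (M i)] [∀ i, Module.Flat R (M i)] (g : ∀ i, F i →ₗ[R] M i)
    (X : ⨂[R] i, F i), PiTensorProduct.map g X = 0 →
    ∃ (F' : Type u) (_ : AddCommGroup F') (_ : Module R F') (_ : Module.Free R F')
      (_ : Module.Finite R F') (a : ∀ i, F i →ₗ[R] F') (y : ∀ i, F' →ₗ[R] M i),
      (∀ i, g i = y i ∘ₗ a i) ∧ PiTensorProduct.map a X = 0

/-- finitely many tensors at once -/
theorem FactProp.multi {ι : Type} (h : FactProp R ι) : ∀ (r : ℕ)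
    (F M : ι → Type u) [∀ i, AddCommGroup (F i)] [∀ i, Module R (F i)]
    [∀ i, Module.Free R (F i)] [∀ i, Module.Finite R (F i)] [∀ i, AddCommGroup (M i)]
    [∀ i, Module R (M i)] [∀ i, Module.Flat R (M i)] (g : ∀ i, F i →ₗ[R] M i)
    (Xs : Fin r → ⨂[R] i, F i), (∀ j, PiTensorProduct.map g (Xs j) = 0) →
    ∃ (F' : Type u) (_ : AddCommGroup F') (_ : Module R F') (_ : Module.Free R F')
      (_ : Module.Finite R F') (a : ∀ i, F i →ₗ[R] F') (y : ∀ i, F' →ₗ[R] M i),
      (∀ i, g i = y i ∘ₗ a i) ∧ ∀ j, PiTensorProduct.map a (Xs j) = 0 := by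
  intro r
  induction r with
  | zero =>
    intro F M _ _ _ _ _ _ _ g Xs _
    obtain ⟨F', i1, i2, i3, i4, a, y, hy, -⟩ := h F M g 0 (map_zero _)
    exact ⟨F', i1, i2, i3, i4, a, y, hy, fun j => j.elim0⟩
  | succ r ih =>
    intro F M _ _ _ _ _ _ _ g Xs hXs
    obtain ⟨F', i1, i2, i3, i4, a, y, hy, ha⟩ := h F M g (Xs 0) (hXs 0)
    have hg : g = fun i => y i ∘ₗ a i := funext hy
    have h1 : ∀ j : Fin r, PiTensorProduct.map y (PiTensorProduct.map a (Xs j.succ)) = 0 := by
      intro j
      rw [← LinearMap.comp_apply, ← PiTensorProduct.map_comp, ← hg]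
      exact hXs j.succ
    obtain ⟨F'', j1, j2, j3, j4, a', y', hy', ha'⟩ :=
      ih (fun _ => F') M y (fun j => PiTensorProduct.map a (Xs j.succ)) h1
    refine ⟨F'', j1, j2, j3, j4, fun i => a' i ∘ₗ a i, y', fun i => ?_, fun j => ?_⟩
    · rw [hy i, hy' i, LinearMap.comp_assoc]
    · rw [PiTensorProduct.map_comp, LinearMap.comp_apply]
      refine Fin.cases ?_ (fun j => ?_) j
      · rw [ha, map_zero]
      · exact ha' j

theorem factProp_of_isEmpty (ι : Type) [IsEmpty ι] : FactProp R ι := by
  intro F M _ _ _ _ _ _ _ g X hX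
  have hX0 : X = 0 := eq_zero_of_map_eq_zero_of_isEmpty g X hX
  exact ⟨PUnit, inferInstance, inferInstance, inferInstance, inferInstance,
    fun i => isEmptyElim i, fun i => isEmptyElim i, fun i => isEmptyElim i, by rw [hX0, map_zero]⟩

theorem factProp_step {ι : Type} [DecidableEq ι] (i₀ : ι)
    (hc : FactProp R ({i₀}ᶜ : Set ι)) : FactProp R ι := by
  intro F M _ _ _ _ _ _ _ g X hX
  set eF := PiTensorProduct.equivPiTensorComplSingletonTensor R F i₀ with heF
  set G' := PiTensorProduct.map (fun i : ({i₀}ᶜ : Set ι) => g i) with hG'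
  have h0 : TensorProduct.map G' (g i₀) (eF X) = 0 := by
    rw [← equivCompl_map, hX, map_zero]
  -- step 1
  have h1 : TensorProduct.map LinearMap.id (g i₀) (TensorProduct.map G' LinearMap.id (eF X)) =
      0 := by
    rw [← LinearMap.comp_apply, ← TensorProduct.map_comp, LinearMap.id_comp, LinearMap.comp_id]
    exact h0
  obtain ⟨k, a₀, y₀, hga, ha₀⟩ := exists_factor_right (g i₀) _ h1
  -- step 2
  have h3 : TensorProduct.map G' LinearMap.id (TensorProduct.map LinearMap.id a₀ (eF X)) =
      0 := by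
    rw [← LinearMap.comp_apply, ← TensorProduct.map_comp, LinearMap.id_comp, LinearMap.comp_id]
    rw [← LinearMap.comp_apply, ← TensorProduct.map_comp, LinearMap.id_comp,
      LinearMap.comp_id] at ha₀
    exact ha₀
  obtain ⟨c, hc2, hc0⟩ := exists_repr_of_map_eq_zero G' k _ h3
  obtain ⟨F'', j1, j2, j3, j4, a', y', hy', ha'⟩ :=
    hc.multi k (fun i : ({i₀}ᶜ : Set ι) => F i) (fun i : ({i₀}ᶜ : Set ι) => M i)
      (fun i : ({i₀}ᶜ : Set ι) => g i) c hc0
  -- assemble
  let A : ∀ i, F i →ₗ[R] ((Fin k →₀ R) × F'') :=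
    Function.subtypeNeLift i₀ (fun i : {i // i ≠ i₀} => LinearMap.inr R _ _ ∘ₗ a' ⟨i.1, i.2⟩)
      (LinearMap.inl R _ _ ∘ₗ a₀)
  let Y : ∀ i, ((Fin k →₀ R) × F'') →ₗ[R] M i :=
    Function.subtypeNeLift i₀ (fun i : {i // i ≠ i₀} => y' ⟨i.1, i.2⟩ ∘ₗ LinearMap.snd R _ _)
      (y₀ ∘ₗ LinearMap.fst R _ _)
  have hA0 : A i₀ = LinearMap.inl R _ _ ∘ₗ a₀ := Function.subtypeNeLift_self _ _ _
  have hY0 : Y i₀ = y₀ ∘ₗ LinearMap.fst R _ _ := Function.subtypeNeLift_self _ _ _
  have hA : ∀ (i : ι) (hi : i ≠ i₀), A i = LinearMap.inr R _ _ ∘ₗ a' ⟨i, hi⟩ := fun i hi =>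
    Function.subtypeNeLift_of_neq _ _ _ i hi
  have hY : ∀ (i : ι) (hi : i ≠ i₀), Y i = y' ⟨i, hi⟩ ∘ₗ LinearMap.snd R _ _ := fun i hi =>
    Function.subtypeNeLift_of_neq _ _ _ i hi
  refine ⟨(Fin k →₀ R) × F'', inferInstance, inferInstance, inferInstance, inferInstance, A, Y,
    fun i => ?_, ?_⟩
  · by_cases hi : i = i₀
    · subst hi
      rw [hA0, hY0, hga]
      ext x
      simp
    · rw [hA i hi, hY i hi]
      have := hy' ⟨i, hi⟩
      rw [this]
      ext x
      simp
  · apply (PiTensorProduct.equivPiTensorComplSingletonTensor R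
      (fun _ : ι => (Fin k →₀ R) × F'') i₀).injective
    rw [equivCompl_map, map_zero, hA0]
    have hAc : (fun i : ({i₀}ᶜ : Set ι) => A i) =
        fun i : ({i₀}ᶜ : Set ι) => LinearMap.inr R (Fin k →₀ R) F'' ∘ₗ a' i := by
      funext i
      exact hA i.1 i.2
    rw [hAc, PiTensorProduct.map_comp, TensorProduct.map_comp, LinearMap.comp_apply]
    have h4 : TensorProduct.map (PiTensorProduct.map a') a₀ (eF X) = 0 := by
      have : TensorProduct.map (PiTensorProduct.map a') a₀ (eF X) =
          TensorProduct.map (PiTensorProduct.map a') LinearMap.id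
            (TensorProduct.map LinearMap.id a₀ (eF X)) := by
        rw [← LinearMap.comp_apply, ← TensorProduct.map_comp, LinearMap.id_comp,
          LinearMap.comp_id]
      rw [this, hc2, map_sum]
      refine Finset.sum_eq_zero fun j _ => ?_
      rw [TensorProduct.map_tmul, ha' j, TensorProduct.zero_tmul]
    rw [h4, map_zero]

theorem factProp_of_finite (ι : Type) [Finite ι] : FactProp R ι := by
  classical
  obtain ⟨n, hn⟩ : ∃ n : ℕ, Nat.card ι = n := ⟨_, rfl⟩
  induction n generalizing ι with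
  | zero =>
    have : IsEmpty ι := (Nat.card_eq_zero.1 hn).resolve_right (Finite.not_infinite ‹_›)
    exact factProp_of_isEmpty ι
  | succ n ih =>
    have : Nonempty ι := ((Nat.card_pos_iff (α := ι)).1 (by omega)).1
    let i₀ : ι := Classical.arbitrary _
    apply factProp_step i₀
    apply ih
    have := Fintype.ofFinite ι
    rw [Nat.card_eq_fintype_card] at hn ⊢
    rw [Fintype.card_compl_set]
    simp [hn]

end Het

section Hom
variable {F F' M : Type u} [AddCommGroup F] [Module R F] [AddCommGroup F'] [Module R F']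
  [AddCommGroup M] [Module R M]

theorem exists_common_refinement {ι : Type} [Finite ι] [Nonempty ι] [Module.Flat R M]
    [Module.Free R F'] [Module.Finite R F'] [Module.Finite R F]
    (g : F →ₗ[R] M) (a : ι → F →ₗ[R] F') (y : ι → F' →ₗ[R] M) (h : ∀ i, g = y i ∘ₗ a i) :
    ∃ (k : ℕ) (b : ι → F' →ₗ[R] (Fin k →₀ R)) (y' : (Fin k →₀ R) →ₗ[R] M)
      (a' : F →ₗ[R] (Fin k →₀ R)), (∀ i, b i ∘ₗ a i = a') ∧ (∀ i, y' ∘ₗ b i = y i) := by
  classical
  have := Fintype.ofFinite ι
  let i₁ : ι := Classical.arbitrary ι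
  let x : (ι → F') →ₗ[R] M := ∑ i, y i ∘ₗ LinearMap.proj i
  let f : (ι → F) →ₗ[R] (ι → F') := ∑ i, (LinearMap.single R (fun _ => F') i ∘ₗ a i -
    LinearMap.single R (fun _ => F') i₁ ∘ₗ a i₁) ∘ₗ LinearMap.proj i
  have hx : ∀ (i : ι) (u : F'), x (Pi.single i u) = y i u := by
    intro i u
    simp only [x, LinearMap.sum_apply, LinearMap.comp_apply, LinearMap.proj_apply]
    rw [Finset.sum_eq_single i]
    · rw [Pi.single_eq_same]
    · intro j _ hj
      rw [Pi.single_eq_of_ne hj, map_zero]
    · intro hi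
      exact absurd (Finset.mem_univ i) hi
  have hf : ∀ (i : ι) (v : F), f (Pi.single i v) =
      Pi.single i (a i v) - Pi.single i₁ (a i₁ v) := by
    intro i v
    simp only [f, LinearMap.sum_apply, LinearMap.comp_apply, LinearMap.proj_apply,
      LinearMap.sub_apply, LinearMap.single_apply]
    rw [Finset.sum_eq_single i]
    · rw [Pi.single_eq_same]
    · intro j _ hj
      rw [Pi.single_eq_of_ne hj, map_zero, map_zero, Pi.single_zero, Pi.single_zero, sub_zero]
    · intro hi
      exact absurd (Finset.mem_univ i) hi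
  have hxf : x ∘ₗ f = 0 := by
    apply LinearMap.pi_ext
    intro i v
    rw [LinearMap.comp_apply, hf, map_sub, hx, hx, LinearMap.zero_apply]
    have h1 := LinearMap.congr_fun (h i) v
    have h2 := LinearMap.congr_fun (h i₁) v
    rw [LinearMap.comp_apply] at h1 h2
    rw [← h1, ← h2, sub_self]
  obtain ⟨k, b, y', hxy, hbf⟩ := Module.Flat.exists_factorization_of_comp_eq_zero_of_free hxf
  refine ⟨k, fun i => b ∘ₗ LinearMap.single R (fun _ => F') i, y',
    b ∘ₗ LinearMap.single R (fun _ => F') i₁ ∘ₗ a i₁, fun i => ?_, fun i => ?_⟩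
  · ext v : 1
    have h1 := LinearMap.congr_fun hbf (Pi.single i v)
    rw [LinearMap.comp_apply, hf, map_sub, LinearMap.zero_apply, sub_eq_zero] at h1
    exact h1
  · ext u : 1
    have h1 := LinearMap.congr_fun hxy (Pi.single i u)
    rw [hx] at h1
    exact h1.symm

/-- **Main factorization theorem.** If finitely many tensors in a tensor power of a finite free
module `F` die in the tensor power of a flat module `M` under `g : F → M`, then `g` factors through
a finite free module in which they already die. -/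
theorem exists_factorization_of_map_eq_zero {ι : Type} [Finite ι] [Module.Flat R M]
    [Module.Free R F] [Module.Finite R F] (g : F →ₗ[R] M) (r : ℕ)
    (Xs : Fin r → ⨂[R] _ : ι, F)
    (h : ∀ j, PiTensorProduct.map (fun _ => g) (Xs j) = 0) :
    ∃ (k : ℕ) (a : F →ₗ[R] (Fin k →₀ R)) (y : (Fin k →₀ R) →ₗ[R] M),
      g = y ∘ₗ a ∧ ∀ j, PiTensorProduct.map (fun _ => a) (Xs j) = 0 := by
  rcases isEmpty_or_nonempty ι with hι | hι
  · let b := Module.Free.chooseBasis R F
    let e : F ≃ₗ[R] (Fin (Fintype.card (Module.Free.ChooseBasisIndex R F)) →₀ R) :=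
      (b.reindex (Fintype.equivFin _)).repr
    refine ⟨_, e.toLinearMap, g ∘ₗ e.symm.toLinearMap, ?_, fun j => ?_⟩
    · ext v
      simp
    · rw [eq_zero_of_map_eq_zero_of_isEmpty _ _ (h j), map_zero]
  · obtain ⟨F', i1, i2, i3, i4, a, y, hy, ha⟩ :=
      (factProp_of_finite (R := R) ι).multi r (fun _ => F) (fun _ => M) (fun _ => g) Xs h
    obtain ⟨k, b, y', a', hba, hyb⟩ := exists_common_refinement g a y hy
    refine ⟨k, a', y', ?_, fun j => ?_⟩
    · rw [hy (Classical.arbitrary ι), ← hyb (Classical.arbitrary ι), LinearMap.comp_assoc, hba]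
    · have : (fun _ : ι => a') = fun i => b i ∘ₗ a i := funext fun i => (hba i).symm
      rw [this, PiTensorProduct.map_comp, LinearMap.comp_apply, ha j, map_zero]

end Hom

end Groth.Agent.Lib.Helper16.FlatTensor
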