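import Groth.Agent.Lib.Helper16.FlatTensor.Sym
import Groth.Agent.Lib.Helper16.NormLaw.SymBasis

/-!
# Symmetric tensors of a flat module form a flat module (helper16)
-/

set_option autoImplicit false

namespace Groth.Agent.Lib.Helper16.FlatTensor
open scoped TensorProduct
open Groth.Agent.Lib.Helper25.PolLawCoeff Groth.Agent.Lib.Helper16.NormLaw
universe u

variable {R : Type u} [CommRing R]

/-- the submodule of symmetric tensors of a module -/
noncomputable def TSsub (R : Type u) [CommRing R] (M : Type u) [AddCommGroup M] [Module R M]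
    (n : ℕ) : Submodule R (⨂[R] _ : Fin n, M) :=
  ⨅ σ : Equiv.Perm (Fin n),
    LinearMap.eqLocus (PiTensorProduct.reindex R (fun _ : Fin n => M) σ).toLinearMap LinearMap.id

theorem mem_TSsub {M : Type u} [AddCommGroup M] [Module R M] {n : ℕ}
    (t : ⨂[R] _ : Fin n, M) :
    t ∈ TSsub R M n ↔
      ∀ σ : Equiv.Perm (Fin n), PiTensorProduct.reindex R (fun _ : Fin n => M) σ t = t := by
  simp [TSsub, Submodule.mem_iInf, LinearMap.mem_eqLocus]

section Free
variable {M : Type u} [AddCommGroup M] [Module R M] {n : ℕ} {J : Type*}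

theorem repr_reindex_module (bas : Module.Basis J R M) (σ : Equiv.Perm (Fin n))
    (z : ⨂[R] _ : Fin n, M) (c : Fin n → J) :
    (Basis.piTensorProduct (fun _ : Fin n => bas)).repr
        (PiTensorProduct.reindex R (fun _ : Fin n => M) σ z) c =
      (Basis.piTensorProduct (fun _ : Fin n => bas)).repr z (c ∘ σ) := by
  induction z using PiTensorProduct.induction_on with
  | smul_tprod r f =>
    rw [map_smul, map_smul, map_smul, Finsupp.smul_apply, Finsupp.smul_apply,
      PiTensorProduct.reindex_tprod, Basis.piTensorProduct_repr_tprod_apply,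
      Basis.piTensorProduct_repr_tprod_apply]
    congr 1
    rw [← Equiv.prod_comp σ]
    refine Finset.prod_congr rfl fun i _ => ?_
    rw [Equiv.symm_apply_apply]
    rfl
  | add x y hx hy =>
    rw [map_add, map_add, map_add, Finsupp.add_apply, Finsupp.add_apply, hx, hy]

theorem ftype_comp_perm (c : Fin n → J) (σ : Equiv.Perm (Fin n)) : ftype (c ∘ σ) = ftype c := by
  unfold ftype
  exact Equiv.sum_comp σ (fun j => Finsupp.single (c j) 1)

/-- a representative of the class of `c` under permutation of the arguments -/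
noncomputable def rep (c : Fin n → J) : Fin n → J :=
  @Classical.epsilon _ ⟨c⟩ (fun c' => ftype c' = ftype c)

theorem ftype_rep (c : Fin n → J) : ftype (rep c) = ftype c :=
  @Classical.epsilon_spec _ (fun c' => ftype c' = ftype c) ⟨c, rfl⟩

theorem rep_congr {c c' : Fin n → J} (h : ftype c = ftype c') : rep c = rep c' := by
  unfold rep
  have : (fun c'' : Fin n → J => ftype c'' = ftype c) = fun c'' => ftype c'' = ftype c' := by
    rw [h]
  simp only [this]

/-- invariant functions -/
def invFun (R : Type u) [CommRing R] (J : Type*) (n : ℕ) : Submodule R ((Fin n → J) → R) where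
  carrier := {r | ∀ (σ : Equiv.Perm (Fin n)) (c : Fin n → J), r (c ∘ σ) = r c}
  add_mem' := fun {a b} ha hb σ c => by rw [Pi.add_apply, Pi.add_apply, ha σ c, hb σ c]
  zero_mem' := fun σ c => rfl
  smul_mem' := fun a {r} hr σ c => by rw [Pi.smul_apply, Pi.smul_apply, hr σ c]

theorem projective_invFun [Finite J] : Module.Projective R (invFun R J n) := by
  classical
  let p : ((Fin n → J) → R) →ₗ[R] invFun R J n :=
    { toFun := fun r => ⟨fun c => r (rep c), fun σ c => by
        show r (rep (c ∘ σ)) = r (rep c)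
        rw [rep_congr (ftype_comp_perm c σ)]⟩
      map_add' := fun r r' => rfl
      map_smul' := fun a r => rfl }
  refine Module.Projective.of_split (invFun R J n).subtype p ?_
  ext ⟨r, hr⟩ c
  show r (rep c) = r c
  obtain ⟨σ, hσ⟩ := exists_perm_of_ftype_eq c (rep c) (ftype_rep c).symm
  have h1 := hr σ (rep c)
  rw [hσ] at h1
  exact h1.symm

theorem flat_TSsub_of_basis [Finite J] (bas : Module.Basis J R M) :
    Module.Flat R (TSsub R M n) := by
  classical
  have := Fintype.ofFinite J
  set bT := Basis.piTensorProduct (fun _ : Fin n => bas) with hbT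
  have hmap : (TSsub R M n).map (bT.equivFun : (⨂[R] _ : Fin n, M) →ₗ[R] _) = invFun R J n := by
    ext r
    constructor
    · rintro ⟨z, hz, rfl⟩
      intro σ c
      have h1 := (mem_TSsub z).1 hz σ
      have h2 := repr_reindex_module bas σ z c
      rw [h1] at h2
      exact h2.symm
    · intro hr
      refine ⟨bT.equivFun.symm r, ?_, LinearEquiv.apply_symm_apply _ _⟩
      rw [SetLike.mem_coe, mem_TSsub]
      intro σ
      apply bT.repr.injective
      ext c
      rw [repr_reindex_module bas σ]
      have h3 : ∀ c', bT.repr (bT.equivFun.symm r) c' = r c' := by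
        intro c'
        have := congrFun (LinearEquiv.apply_symm_apply bT.equivFun r) c'
        exact this
      rw [h3, h3]
      exact hr σ c
  have e : TSsub R M n ≃ₗ[R] invFun R J n :=
    LinearEquiv.ofSubmodules bT.equivFun _ _ hmap
  have := projective_invFun (R := R) (J := J) (n := n)
  exact Module.Flat.of_linearEquiv e

end Free

section Flat
variable {M : Type u} [AddCommGroup M] [Module R M]

/-- the symmetric tensors of a flat module form a flat module -/
theorem flat_TSsub [Module.Flat R M] (n : ℕ) : Module.Flat R (TSsub R M n) := by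
  classical
  apply Module.Flat.of_forall_isTrivialRelation
  intro l f x hfx
  obtain ⟨F₀, i1, i2, i3, i4, g, Xs, hXs⟩ :=
    exists_common_source (R := R) (ι := Fin n) l (fun i => (x i).1)
  have hsymx : ∀ i (σ : Equiv.Perm (Fin n)),
      PiTensorProduct.reindex R (fun _ : Fin n => M) σ (x i).1 = (x i).1 :=
    fun i => (mem_TSsub _).1 (x i).2
  have hZ : PiTensorProduct.map (fun _ => g) (∑ i, f i • Xs i) = 0 := by
    rw [map_sum]
    simp_rw [map_smul, hXs]
    have h1 := congrArg Subtype.val hfx
    rw [Submodule.coe_sum] at h1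
    exact h1
  obtain ⟨k, a₀, y₀, hg₀, hsym₀, hkill₀⟩ := exists_factorization_symmetric g l 1 Xs
    (fun _ => ∑ i, f i • Xs i) (fun j σ => by rw [hXs j]; exact hsymx j σ) (fun _ => hZ)
  -- transport from `Fin k →₀ R` to `Fin k → R`
  let e : (Fin k →₀ R) ≃ₗ[R] (Fin k → R) := Finsupp.linearEquivFunOnFinite R R (Fin k)
  let a : F₀ →ₗ[R] (Fin k → R) := e.toLinearMap ∘ₗ a₀
  let y : (Fin k → R) →ₗ[R] M := y₀ ∘ₗ e.symm.toLinearMap
  have hg : g = y ∘ₗ a := by
    rw [hg₀]
    ext v
    simp [a, y]
  have hmapa : ∀ X : ⨂[R] _ : Fin n, F₀, PiTensorProduct.map (fun _ => a) X =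
      PiTensorProduct.map (fun _ => e.toLinearMap) (PiTensorProduct.map (fun _ => a₀) X) := by
    intro X
    rw [← LinearMap.comp_apply, ← PiTensorProduct.map_comp]
  have hsym : ∀ j (σ : Equiv.Perm (Fin n)), PiTensorProduct.reindex R (fun _ : Fin n => Fin k → R) σ
      (PiTensorProduct.map (fun _ => a) (Xs j)) = PiTensorProduct.map (fun _ => a) (Xs j) := by
    intro j σ
    rw [hmapa, ← map_reindex_const, hsym₀ j σ]
  have hkill : PiTensorProduct.map (fun _ => a) (∑ i, f i • Xs i) = 0 := by
    rw [hmapa, hkill₀ 0, map_zero]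
  let X' : Fin l → TSsub R (Fin k → R) n := fun i =>
    ⟨PiTensorProduct.map (fun _ => a) (Xs i), (mem_TSsub _).2 (hsym i)⟩
  have hrel : ∑ i, f i • X' i = 0 := by
    apply Subtype.ext
    have h1 := hkill
    rw [map_sum] at h1
    rw [Submodule.coe_sum]
    simp_rw [map_smul] at h1
    exact h1
  have hflat : Module.Flat R (TSsub R (Fin k → R) n) :=
    flat_TSsub_of_basis (Pi.basisFun R (Fin k))
  obtain ⟨k', a', Y, hY, ha'⟩ :=
    Module.Flat.isTrivialRelation_of_sum_smul_eq_zero (R := R)
      (M := TSsub R (Fin k → R) n) (f := f) (x := X') hrel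
  refine ⟨k', a', fun j => ⟨PiTensorProduct.map (fun _ => y) (Y j).1, (mem_TSsub _).2
    (fun σ => by rw [← map_reindex_const, (mem_TSsub _).1 (Y j).2 σ])⟩, fun i => ?_, ha'⟩
  apply Subtype.ext
  have h1 : (x i).1 = PiTensorProduct.map (fun _ => y) (X' i).1 := by
    show _ = PiTensorProduct.map (fun _ => y) (PiTensorProduct.map (fun _ => a) (Xs i))
    rw [← LinearMap.comp_apply, ← PiTensorProduct.map_comp, ← hg]
    exact (hXs i).symm
  rw [h1, hY i, Submodule.coe_sum, Submodule.coe_sum, map_sum]
  refine Finset.sum_congr rfl fun j _ => ?_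
  rw [Submodule.coe_smul, Submodule.coe_smul, map_smul]

end Flat

end Groth.Agent.Lib.Helper16.FlatTensor
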