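import Groth.Agent.Lib.Helper16.FlatTensor.GammaTS
import Groth.Agent.Lib.Helper16.FlatTensor.TSFlat

/-!
# `Γ^d_A(B)` is flat when `B` is flat (helper16)
-/

set_option autoImplicit false

namespace Groth.Agent.Lib.Helper16.FlatTensor
open scoped TensorProduct
open Groth.Agent.Lib.Helper25.PolLawCoeff Groth.Agent.Lib.Helper16.NormLaw
universe u

section Uniq
variable {A : Type u} [CommRing A] {B : Type u} [CommRing B] [Algebra A B] {d : ℕ}
  {C C' : Type u} [CommRing C] [Algebra A C] [CommRing C'] [Algebra A C']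

theorem postcomp_comp {C'' : Type u} [CommRing C''] [Algebra A C''] (F : B →ₚₗ[A] C)
    (f : C →ₐ[A] C') (g : C' →ₐ[A] C'') :
    PolLaw.postcomp (g.comp f).toLinearMap F =
      PolLaw.postcomp g.toLinearMap (PolLaw.postcomp f.toLinearMap F) := by
  refine PolynomialLaw.ext ?_
  funext S _ _ z
  show (g.comp f).toLinearMap.lTensor S (F.toFun' S z) =
    g.toLinearMap.lTensor S (f.toLinearMap.lTensor S (F.toFun' S z))
  rw [← LinearMap.comp_apply, ← LinearMap.lTensor_comp]
  rfl

theorem postcomp_id (F : B →ₚₗ[A] C) :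
    PolLaw.postcomp (AlgHom.id A C).toLinearMap F = F := by
  refine PolynomialLaw.ext ?_
  funext S _ _ z
  show (AlgHom.id A C).toLinearMap.lTensor S (F.toFun' S z) = F.toFun' S z
  have : (AlgHom.id A C).toLinearMap = LinearMap.id := rfl
  rw [this, LinearMap.lTensor_id, LinearMap.id_apply]

/-- two universal pairs are isomorphic -/
theorem nonempty_algEquiv_of_isGammaD (γ : PolLaw.MulLaw A B C d) (hγ : PolLaw.IsGammaD γ)
    (γ' : PolLaw.MulLaw A B C' d) (hγ' : PolLaw.IsGammaD γ') : Nonempty (C ≃ₐ[A] C') := by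
  obtain ⟨f, hf, -⟩ := hγ C' γ'
  obtain ⟨g, hg, -⟩ := hγ' C γ
  have h1 : g.comp f = AlgHom.id A C := by
    apply (hγ C γ).unique
    · rw [postcomp_comp, hf, hg]
    · exact postcomp_id _
  have h2 : f.comp g = AlgHom.id A C' := by
    apply (hγ' C' γ').unique
    · rw [postcomp_comp, hg, hf]
    · exact postcomp_id _
  exact ⟨AlgEquiv.ofAlgHom f g h2 h1⟩

end Uniq

section Flat
variable {A : Type u} [CommRing A] {B : Type u} [CommRing B] [Algebra A B] {d : ℕ}
  {C : Type u} [CommRing C] [Algebra A C]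

theorem flat_TS [Module.Flat A B] : Module.Flat A (SymTen.TS A B d) := by
  have h := flat_TSsub (R := A) (M := B) d
  have e : TSsub A B d ≃ₗ[A] SymTen.TS A B d :=
    { toFun := fun x => ⟨x.1, (mem_TSsub x.1).1 x.2⟩
      invFun := fun x => ⟨x.1, (mem_TSsub x.1).2 x.2⟩
      map_add' := fun x y => rfl
      map_smul' := fun a x => rfl
      left_inv := fun x => rfl
      right_inv := fun x => rfl }
  exact Module.Flat.of_linearEquiv e.symm

/-- `Γ^d_A(B)` is flat over `A` when `B` is -/
theorem flat_of_isGammaD [Module.Flat A B] (γ : PolLaw.MulLaw A B C d)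
    (hγ : PolLaw.IsGammaD γ) : Module.Flat A C := by
  obtain ⟨τ, -, hτ⟩ := exists_isGammaD_TS_of_flat_or_isUnit (A := A) (B := B) (d := d)
    (Or.inl inferInstance)
  obtain ⟨e⟩ := nonempty_algEquiv_of_isGammaD γ hγ τ hτ
  have := flat_TS (A := A) (B := B) (d := d)
  exact Module.Flat.of_linearEquiv e.toLinearEquiv

end Flat

end Groth.Agent.Lib.Helper16.FlatTensor
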