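import Groth.Agent.Lib.Helper16.FlatTensor.Factor

/-!
# Symmetric tensors of flat modules come from finite free modules (helper16)
-/

set_option autoImplicit false

namespace Groth.Agent.Lib.Helper16.FlatTensor
open scoped TensorProduct
universe u

variable {R : Type u} [CommRing R]

section Sym
variable {ι : Type} {M : Type u} [AddCommGroup M] [Module R M]

/-- constant-family version of `PiTensorProduct.map_reindex` -/
theorem map_reindex_const {F N : Type u} [AddCommGroup F] [Module R F] [AddCommGroup N]
    [Module R N] (f : F →ₗ[R] N) (σ : Equiv.Perm ι) (x : ⨂[R] _ : ι, F) :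
    PiTensorProduct.map (fun _ => f) (PiTensorProduct.reindex R (fun _ : ι => F) σ x) =
      PiTensorProduct.reindex R (fun _ : ι => N) σ (PiTensorProduct.map (fun _ => f) x) :=
  PiTensorProduct.map_reindex (fun _ : ι => f) σ x

/-- finitely many tensors over `M` come from a common finite free module -/
theorem exists_common_source [Finite ι] (r : ℕ) (ts : Fin r → ⨂[R] _ : ι, M) :
    ∃ (F : Type u) (_ : AddCommGroup F) (_ : Module R F) (_ : Module.Free R F)
      (_ : Module.Finite R F) (g : F →ₗ[R] M) (Xs : Fin r → ⨂[R] _ : ι, F),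
      ∀ j, PiTensorProduct.map (fun _ => g) (Xs j) = ts j := by
  classical
  have := Fintype.ofFinite ι
  -- single tensor
  have single : ∀ t : ⨂[R] _ : ι, M,
      ∃ (F : Type u) (_ : AddCommGroup F) (_ : Module R F) (_ : Module.Free R F)
        (_ : Module.Finite R F) (g : F →ₗ[R] M) (X : ⨂[R] _ : ι, F),
        PiTensorProduct.map (fun _ => g) X = t := by
    intro t
    induction t using PiTensorProduct.induction_on with
    | smul_tprod c v =>
      refine ⟨ULift.{u} ι →₀ R, inferInstance, inferInstance, inferInstance, inferInstance,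
        Finsupp.linearCombination R (fun i : ULift.{u} ι => v i.down),
        c • PiTensorProduct.tprod R (fun i => Finsupp.single (ULift.up i) (1 : R)), ?_⟩
      rw [map_smul, PiTensorProduct.map_tprod]
      congr 2
      funext i
      simp
    | add x y hx hy =>
      obtain ⟨F₁, i1, i2, i3, i4, g₁, X₁, h₁⟩ := hx
      obtain ⟨F₂, j1, j2, j3, j4, g₂, X₂, h₂⟩ := hy
      refine ⟨F₁ × F₂, inferInstance, inferInstance, inferInstance, inferInstance,
        g₁.coprod g₂,
        PiTensorProduct.map (fun _ => LinearMap.inl R F₁ F₂) X₁ +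
          PiTensorProduct.map (fun _ => LinearMap.inr R F₁ F₂) X₂, ?_⟩
      rw [map_add, ← LinearMap.comp_apply, ← LinearMap.comp_apply, ← PiTensorProduct.map_comp,
        ← PiTensorProduct.map_comp]
      simp only [LinearMap.coprod_inl, LinearMap.coprod_inr]
      rw [h₁, h₂]
  induction r with
  | zero =>
    exact ⟨PUnit, inferInstance, inferInstance, inferInstance, inferInstance, 0,
      fun j => j.elim0, fun j => j.elim0⟩
  | succ r ih =>
    obtain ⟨F₁, i1, i2, i3, i4, g₁, X₁, h₁⟩ := single (ts 0)
    obtain ⟨F₂, j1, j2, j3, j4, g₂, X₂, h₂⟩ := ih (fun j => ts j.succ)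
    refine ⟨F₁ × F₂, inferInstance, inferInstance, inferInstance, inferInstance,
      g₁.coprod g₂,
      Fin.cons (PiTensorProduct.map (fun _ => LinearMap.inl R F₁ F₂) X₁)
        (fun j => PiTensorProduct.map (fun _ => LinearMap.inr R F₁ F₂) (X₂ j)), fun j => ?_⟩
    refine Fin.cases ?_ (fun j => ?_) j
    · rw [Fin.cons_zero, ← LinearMap.comp_apply, ← PiTensorProduct.map_comp]
      simp only [LinearMap.coprod_inl]
      exact h₁
    · rw [Fin.cons_succ, ← LinearMap.comp_apply, ← PiTensorProduct.map_comp]
      simp only [LinearMap.coprod_inr]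
      exact h₂ j

/-- **Key lemma.** Let `g : F → M` be a linear map from a finite free module to a flat module,
`Xs` finitely many tensors whose images in `⨂ M` are symmetric and `Zs` finitely many tensors
whose images vanish. Then `g` factors through a finite free module `R^k` in which the images of
the `Xs` are symmetric and the images of the `Zs` vanish. -/
theorem exists_factorization_symmetric [Finite ι] [Module.Flat R M] {F : Type u}
    [AddCommGroup F] [Module R F] [Module.Free R F] [Module.Finite R F] (g : F →ₗ[R] M)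
    (r s : ℕ) (Xs : Fin r → ⨂[R] _ : ι, F) (Zs : Fin s → ⨂[R] _ : ι, F)
    (hX : ∀ j (σ : Equiv.Perm ι), PiTensorProduct.reindex R (fun _ : ι => M) σ
      (PiTensorProduct.map (fun _ => g) (Xs j)) = PiTensorProduct.map (fun _ => g) (Xs j))
    (hZ : ∀ j, PiTensorProduct.map (fun _ => g) (Zs j) = 0) :
    ∃ (k : ℕ) (a : F →ₗ[R] (Fin k →₀ R)) (y : (Fin k →₀ R) →ₗ[R] M), g = y ∘ₗ a ∧
      (∀ j (σ : Equiv.Perm ι), PiTensorProduct.reindex R (fun _ : ι => Fin k →₀ R) σ
        (PiTensorProduct.map (fun _ => a) (Xs j)) = PiTensorProduct.map (fun _ => a) (Xs j)) ∧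
      ∀ j, PiTensorProduct.map (fun _ => a) (Zs j) = 0 := by
  classical
  have := Fintype.ofFinite ι
  -- the finite family of all relations
  let W : (Fin r × Equiv.Perm ι) ⊕ Fin s → ⨂[R] _ : ι, F := fun w =>
    match w with
    | Sum.inl p => PiTensorProduct.reindex R (fun _ : ι => F) p.2 (Xs p.1) - Xs p.1
    | Sum.inr j => Zs j
  let e := Fintype.equivFin ((Fin r × Equiv.Perm ι) ⊕ Fin s)
  have hW : ∀ n, PiTensorProduct.map (fun _ => g) (W (e.symm n)) = 0 := by
    intro n
    rcases e.symm n with p | j
    · show PiTensorProduct.map (fun _ => g)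
        (PiTensorProduct.reindex R (fun _ : ι => F) p.2 (Xs p.1) - Xs p.1) = 0
      rw [map_sub, map_reindex_const, hX, sub_self]
    · exact hZ j
  obtain ⟨k, a, y, hg, ha⟩ := exists_factorization_of_map_eq_zero g _ (fun n => W (e.symm n)) hW
  refine ⟨k, a, y, hg, fun j σ => ?_, fun j => ?_⟩
  · have h1 := ha (e (Sum.inl (j, σ)))
    rw [Equiv.symm_apply_apply] at h1
    have h2 : PiTensorProduct.map (fun _ => a)
        (PiTensorProduct.reindex R (fun _ : ι => F) σ (Xs j) - Xs j) = 0 := h1
    rw [map_sub, map_reindex_const, sub_eq_zero] at h2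
    exact h2
  · have h1 := ha (e (Sum.inr j))
    rw [Equiv.symm_apply_apply] at h1
    exact h1

/-- Every symmetric tensor over a flat module is the image of a symmetric tensor over a finite
free module. -/
theorem exists_symmetric_preimage [Finite ι] [Module.Flat R M] (t : ⨂[R] _ : ι, M)
    (ht : ∀ σ : Equiv.Perm ι, PiTensorProduct.reindex R (fun _ : ι => M) σ t = t) :
    ∃ (k : ℕ) (y : (Fin k →₀ R) →ₗ[R] M) (X : ⨂[R] _ : ι, (Fin k →₀ R)),
      (∀ σ : Equiv.Perm ι, PiTensorProduct.reindex R (fun _ : ι => Fin k →₀ R) σ X = X) ∧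
      PiTensorProduct.map (fun _ => y) X = t := by
  obtain ⟨F, i1, i2, i3, i4, g, Xs, hXs⟩ := exists_common_source (R := R) 1 (fun _ => t)
  obtain ⟨k, a, y, hg, hsym, -⟩ := exists_factorization_symmetric g 1 0 Xs (fun j => j.elim0)
    (fun j σ => by rw [hXs j]; exact ht σ) (fun j => j.elim0)
  refine ⟨k, y, PiTensorProduct.map (fun _ => a) (Xs 0), hsym 0, ?_⟩
  rw [← LinearMap.comp_apply, ← PiTensorProduct.map_comp, ← hg]
  exact hXs 0

end Sym

end Groth.Agent.Lib.Helper16.FlatTensor
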