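import Groth.Agent.Lib.Helper16.NormLaw.Main
import Groth.Agent.Lib.Helper16.FlatTensor.Sym

/-!
# `TS^d_A(B)` is `Γ^d_A(B)` when `B` is flat or `d!` is invertible (helper16)
-/

set_option autoImplicit false

namespace Groth.Agent.Lib.Helper16.FlatTensor
open scoped TensorProduct
open Groth.Agent.Lib.Helper25.PolLawCoeff Groth.Agent.Lib.Helper16.NormLaw
universe u

section General
variable {A : Type u} [CommRing A] {B : Type u} [CommRing B] [Algebra A B] {d : ℕ}

theorem cs_le_TS {x : ⨂[A] _ : Fin d, B} (hx : x ∈ cs B d) : x ∈ SymTen.TS A B d := by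
  intro σ
  rw [← SymTen.perm_apply]
  exact perm_cs σ hx

theorem tmap_eq_map {C : Type u} [CommRing C] [Algebra A C] (f : B →ₐ[A] C)
    (x : ⨂[A] _ : Fin d, B) :
    SymTen.tmap A d f x = PiTensorProduct.map (fun _ => f.toLinearMap) x := by
  induction x using PiTensorProduct.induction_on with
  | smul_tprod r v =>
    rw [map_smul, map_smul, SymTen.tmap_tprod, PiTensorProduct.map_tprod]
    rfl
  | add x y hx hy => rw [map_add, map_add, hx, hy]

/-- postcomposition equality from coefficient equality -/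
theorem postcomp_eq_of_coeff {M N N' : Type u} [AddCommGroup M] [Module A M] [AddCommGroup N]
    [Module A N] [AddCommGroup N'] [Module A N'] (g : N →ₗ[A] N') (G : M →ₚₗ[A] N)
    (F : M →ₚₗ[A] N')
    (h : ∀ (σ : Type u) (m : σ → M) (I : Finset σ) (ν : σ →₀ ℕ),
      g (coeff G m I ν) = coeff F m I ν) :
    PolLaw.postcomp g G = F := by
  refine PolynomialLaw.ext ?_
  funext S _ _ y
  obtain ⟨σ, I, s, m, rfl⟩ := exists_sum_tmul S y
  show g.lTensor S (G.toFun' S _) = _
  rw [toFun'_sum, toFun'_sum, map_sum]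
  simp_rw [LinearMap.lTensor_tmul, h]
  have hsub : (coeff F m I).support ⊆ (coeff G m I).support := by
    intro ν hν
    rw [Finsupp.mem_support_iff] at hν ⊢
    intro h0
    apply hν
    rw [← h σ m I ν, h0, map_zero]
  symm
  apply Finset.sum_subset hsub
  intro ν _ hν
  rw [Finsupp.notMem_support_iff.1 hν, TensorProduct.tmul_zero]

variable {C' : Type u} [CommRing C'] [Algebra A C'] (F : PolLaw.MulLaw A B C' d)
  (L : (⨂[A] _ : Fin d, B) →ₗ[A] C')

theorem map_one_of_coeff
    (hL : ∀ (σ : Type u) (m : σ → B) (I : Finset σ) (ν : σ →₀ ℕ),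
      L (coeff (SymTen.tpowLaw A B d).law m I ν) = coeff F.law m I ν) : L 1 = 1 := by
  rw [← coeff_one (SymTen.tpowLaw A B d), hL, coeff_one]

theorem map_mul_of_coeff
    (hL : ∀ (σ : Type u) (m : σ → B) (I : Finset σ) (ν : σ →₀ ℕ),
      L (coeff (SymTen.tpowLaw A B d).law m I ν) = coeff F.law m I ν)
    {x y : ⨂[A] _ : Fin d, B} (hx : x ∈ cs B d) (hy : y ∈ cs B d) :
    L (x * y) = L x * L y := by
  classical
  induction hx using Submodule.span_induction with
  | mem x hx =>
    obtain ⟨σ, m, I, ν, rfl⟩ := hx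
    induction hy using Submodule.span_induction with
    | mem y hy =>
      obtain ⟨σ', m', I', ν', rfl⟩ := hy
      set U := (coeff (SymTen.tpowLaw A B d).law (fun p : σ × σ' => m p.1 * m' p.2)
        (I ×ˢ I')).support ∪ (coeff F.law (fun p : σ × σ' => m p.1 * m' p.2) (I ×ˢ I')).support
      rw [coeff_mul_coeff (SymTen.tpowLaw A B d) m I ν m' I' ν' U Finset.subset_union_left,
        map_sum, hL, hL,
        coeff_mul_coeff F m I ν m' I' ν' U Finset.subset_union_right]
      refine Finset.sum_congr rfl fun μ _ => ?_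
      rw [map_smul, hL]
    | zero => simp
    | add y y' _ _ hy hy' => rw [mul_add, map_add, map_add, hy, hy', mul_add]
    | smul a y _ hy => rw [mul_smul_comm, map_smul, map_smul, hy, mul_smul_comm]
  | zero => simp
  | add x x' _ _ hx hx' => rw [add_mul, map_add, map_add, hx, hx', add_mul]
  | smul a x _ hx => rw [smul_mul_assoc, map_smul, map_smul, hx, smul_mul_assoc]

end General

section PartA
variable {A : Type u} [CommRing A] {B : Type u} [CommRing B] [Algebra A B] {d : ℕ}

/-- If the symmetric tensors are spanned by the coefficients of the tensor power law and every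
multiplicative law of degree `d` factors on coefficients through an algebra map out of `TS^d(B)`,
then `TS^d(B)` with the tensor power law is `Γ^d_A(B)`. -/
theorem exists_isGammaD_TS
    (hTS : ∀ t ∈ SymTen.TS A B d, t ∈ cs B d)
    (hE : ∀ (C' : Type u) [CommRing C'] [Algebra A C'] (F : PolLaw.MulLaw A B C' d),
      ∃ f : SymTen.TS A B d →ₐ[A] C', ∀ (σ : Type u) (m : σ → B) (I : Finset σ) (ν : σ →₀ ℕ)
        (h : coeff (SymTen.tpowLaw A B d).law m I ν ∈ SymTen.TS A B d),
        f ⟨coeff (SymTen.tpowLaw A B d).law m I ν, h⟩ = coeff F.law m I ν) :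
    ∃ τ : PolLaw.MulLaw A B (SymTen.TS A B d) d,
      (∀ (S : Type u) [CommSemiring S] [Algebra A S] (n : ℕ) (s : Fin n → S) (b : Fin n → B),
        (SymTen.TS A B d).val.toLinearMap.lTensor S (τ.law.toFun' S (∑ j, s j ⊗ₜ[A] b j)) =
          ∑ c : Fin d → Fin n, (∏ i, s (c i)) ⊗ₜ[A] PiTensorProduct.tprod A (fun i => b (c i))) ∧
      PolLaw.IsGammaD τ := by
  have hEq : coeffSubalgebra (SymTen.tpowLaw A B d) = SymTen.TS A B d := by
    ext t
    exact ⟨fun h => cs_le_TS h, fun h => hTS t h⟩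
  let e : ↥(coeffSubalgebra (SymTen.tpowLaw A B d)) ≃ₐ[A] ↥(SymTen.TS A B d) :=
    Subalgebra.equivOfEq _ _ hEq
  let τ : PolLaw.MulLaw A B (SymTen.TS A B d) d :=
    PolLaw.MulLaw.postcomp e.toAlgHom (coMulLaw (SymTen.tpowLaw A B d))
  have hval : ∀ (S : Type u) [CommSemiring S] [Algebra A S] (z : S ⊗[A] B),
      (SymTen.TS A B d).val.toLinearMap.lTensor S (τ.law.toFun' S z) =
        (SymTen.tpowLaw A B d).law.toFun' S z := by
    intro S _ _ z
    show (SymTen.TS A B d).val.toLinearMap.lTensor S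
      (e.toAlgHom.toLinearMap.lTensor S ((coLaw (SymTen.tpowLaw A B d)).toFun' S z)) = _
    rw [← LinearMap.comp_apply, ← LinearMap.lTensor_comp]
    have : (SymTen.TS A B d).val.toLinearMap ∘ₗ e.toAlgHom.toLinearMap =
        (coeffSubalgebra (SymTen.tpowLaw A B d)).val.toLinearMap := by
      ext x
      rfl
    rw [this]
    exact incl_coLaw (SymTen.tpowLaw A B d) S z
  have h1 : PolLaw.postcomp (SymTen.TS A B d).val.toLinearMap τ.law =
      (SymTen.tpowLaw A B d).law := by
    refine PolynomialLaw.ext ?_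
    funext S _ _ z
    exact hval S z
  have hcoeffval : ∀ (σ : Type u) (m : σ → B) (I : Finset σ) (ν : σ →₀ ℕ),
      ((coeff τ.law m I ν : SymTen.TS A B d) : ⨂[A] _ : Fin d, B) =
        coeff (SymTen.tpowLaw A B d).law m I ν := by
    intro σ m I ν
    rw [← h1, coeff_postcomp]
    rfl
  have hcoeff : ∀ {C' : Type u} [CommRing C'] [Algebra A C'] (F : PolLaw.MulLaw A B C' d)
      (f : SymTen.TS A B d →ₐ[A] C'), PolLaw.postcomp f.toLinearMap τ.law = F.law →
      ∀ (x : ⨂[A] _ : Fin d, B) (hx : x ∈ cs B d) (f' : SymTen.TS A B d →ₐ[A] C'),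
      PolLaw.postcomp f'.toLinearMap τ.law = F.law →
      f' ⟨x, cs_le_TS hx⟩ = f ⟨x, cs_le_TS hx⟩ := by
    intro C' _ _ F f hf x hx f' hf'
    induction hx using Submodule.span_induction with
    | mem x hx =>
      obtain ⟨σ, m, I, ν, rfl⟩ := hx
      have hx' : (⟨coeff (SymTen.tpowLaw A B d).law m I ν, cs_le_TS (Submodule.subset_span
          ⟨σ, m, I, ν, rfl⟩)⟩ : SymTen.TS A B d) = coeff τ.law m I ν :=
        Subtype.ext (hcoeffval σ m I ν).symm
      rw [hx']
      have e1 := coeff_postcomp f.toLinearMap τ.law m I ν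
      have e2 := coeff_postcomp f'.toLinearMap τ.law m I ν
      rw [hf] at e1
      rw [hf'] at e2
      exact e2.symm.trans e1
    | zero =>
      have : (⟨0, cs_le_TS (Submodule.zero_mem _)⟩ : SymTen.TS A B d) = 0 := rfl
      rw [this, map_zero, map_zero]
    | add x y hx hy ihx ihy =>
      have : (⟨x + y, cs_le_TS (Submodule.add_mem _ hx hy)⟩ : SymTen.TS A B d) =
          ⟨x, cs_le_TS hx⟩ + ⟨y, cs_le_TS hy⟩ := rfl
      rw [this, map_add, map_add, ihx, ihy]
    | smul a x hx ihx =>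
      have : (⟨a • x, cs_le_TS (Submodule.smul_mem _ a hx)⟩ : SymTen.TS A B d) =
          a • ⟨x, cs_le_TS hx⟩ := rfl
      rw [this, map_smul, map_smul, ihx]
  refine ⟨τ, ?_, ?_⟩
  · intro S _ _ n s b
    rw [hval]
    have := tpowLaw_sum (A := A) (B := B) (d := d) S s b Finset.univ
    rw [Fintype.piFinset_univ] at this
    exact this
  · intro C' _ _ F
    obtain ⟨f, hf⟩ := hE C' F
    have hfF : PolLaw.postcomp f.toLinearMap τ.law = F.law := by
      apply postcomp_eq_of_coeff
      intro σ m I ν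
      have h2 := hf σ m I ν (by rw [← hcoeffval]; exact (coeff τ.law m I ν).2)
      rw [← h2]
      show f (coeff τ.law m I ν) = _
      congr 1
      exact Subtype.ext (hcoeffval σ m I ν)
    refine ⟨f, hfF, ?_⟩
    intro f' hf'
    refine AlgHom.ext fun t => ?_
    exact hcoeff F f hfF t.1 (hTS t.1 t.2) f' hf'

end PartA

section PartC
variable {A : Type u} [CommRing A] {B : Type u} [CommRing B] [Algebra A B] {d : ℕ}

theorem polarLin_tpowLaw_mem_cs (x : ⨂[A] _ : Fin d, B) :
    polarLin (SymTen.tpowLaw A B d).law d x ∈ cs B d := by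
  induction x using PiTensorProduct.induction_on with
  | smul_tprod r b =>
    rw [map_smul, polarLin_tprod]
    exact Submodule.smul_mem _ _ (coeff_mem_coeffSpan _ _ _ _)
  | add x y hx hy =>
    rw [map_add]
    exact Submodule.add_mem _ hx hy

theorem mem_cs_of_mem_TS_of_isUnit (hu : IsUnit ((d.factorial : ℕ) : A))
    {t : ⨂[A] _ : Fin d, B} (ht : t ∈ SymTen.TS A B d) : t ∈ cs B d := by
  have h1 : polarLin (SymTen.tpowLaw A B d).law d t = ((d.factorial : ℕ) : A) • t := by
    rw [polarLin_tpowLaw]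
    have : ∀ σ, SymTen.perm A B d σ t = t := fun σ => by
      rw [SymTen.perm_apply]
      exact ht σ
    rw [Finset.sum_congr rfl (fun σ _ => this σ), Finset.sum_const, Finset.card_univ,
      Fintype.card_perm, Fintype.card_fin, Nat.cast_smul_eq_nsmul]
  obtain ⟨v, hv⟩ := hu
  have h3 : t = (↑v⁻¹ : A) • (((d.factorial : ℕ) : A) • t) := by
    rw [smul_smul, ← hv, Units.inv_mul, one_smul]
  rw [h3, ← h1]
  exact Submodule.smul_mem _ _ (polarLin_tpowLaw_mem_cs t)

theorem exists_algHom_of_isUnit (hu : IsUnit ((d.factorial : ℕ) : A))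
    (C' : Type u) [CommRing C'] [Algebra A C'] (F : PolLaw.MulLaw A B C' d) :
    ∃ f : SymTen.TS A B d →ₐ[A] C', ∀ (σ : Type u) (m : σ → B) (I : Finset σ) (ν : σ →₀ ℕ)
      (h : coeff (SymTen.tpowLaw A B d).law m I ν ∈ SymTen.TS A B d),
      f ⟨coeff (SymTen.tpowLaw A B d).law m I ν, h⟩ = coeff F.law m I ν := by
  obtain ⟨v, hv⟩ := hu
  let L : (⨂[A] _ : Fin d, B) →ₗ[A] C' := (↑v⁻¹ : A) • polarLin F.law d
  have hL : ∀ (σ : Type u) (m : σ → B) (I : Finset σ) (ν : σ →₀ ℕ),
      L (coeff (SymTen.tpowLaw A B d).law m I ν) = coeff F.law m I ν := by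
    intro σ m I ν
    show (↑v⁻¹ : A) • polarLin F.law d (coeff (SymTen.tpowLaw A B d).law m I ν) = _
    rw [polarLin_coeff_tpowLaw F.law F.homog, ← Nat.cast_smul_eq_nsmul A, smul_smul, ← hv,
      Units.inv_mul, one_smul]
  have hu' : IsUnit ((d.factorial : ℕ) : A) := ⟨v, hv⟩
  refine ⟨AlgHom.ofLinearMap (L ∘ₗ (SymTen.TS A B d).val.toLinearMap)
    (map_one_of_coeff F L hL) (fun x y => map_mul_of_coeff F L hL
      (mem_cs_of_mem_TS_of_isUnit hu' x.2) (mem_cs_of_mem_TS_of_isUnit hu' y.2)),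
    fun σ m I ν h => hL σ m I ν⟩

end PartC

section Poly
variable (A : Type u) [CommRing A] (k : ℕ)

/-- the polynomial algebra on `k` variables (indexed in `Type u`) -/
abbrev Pk := MvPolynomial (ULift.{u} (Fin k)) A

/-- the inclusion of `A^k` as the linear forms -/
noncomputable def iotaK : (Fin k →₀ A) →ₗ[A] Pk A k :=
  Finsupp.linearCombination A (fun j : Fin k => (MvPolynomial.X (ULift.up j) : Pk A k))

theorem iotaK_single (j : Fin k) :
    iotaK A k (Finsupp.single j 1) = MvPolynomial.X (ULift.up j) := by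
  simp [iotaK]

variable {A k} {Q : Type u} [CommRing Q] [Algebra A Q]

/-- extension of a linear map `A^k → Q` to the polynomial algebra -/
noncomputable def extK (y : (Fin k →₀ A) →ₗ[A] Q) : Pk A k →ₐ[A] Q :=
  MvPolynomial.aeval (fun j : ULift.{u} (Fin k) => y (Finsupp.single j.down 1))

theorem extK_X (y : (Fin k →₀ A) →ₗ[A] Q) (j : ULift.{u} (Fin k)) :
    extK y (MvPolynomial.X j) = y (Finsupp.single j.down 1) := by
  simp [extK]

theorem extK_comp_iotaK (y : (Fin k →₀ A) →ₗ[A] Q) :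
    (extK y).toLinearMap ∘ₗ iotaK A k = y := by
  apply Finsupp.lhom_ext'
  intro j
  ext
  simp [iotaK_single, extK_X]

end Poly

section PartB
variable {A : Type u} [CommRing A] {B : Type u} [CommRing B] [Algebra A B] {d : ℕ}

theorem mem_cs_of_mem_TS_of_flat [Module.Flat A B] {t : ⨂[A] _ : Fin d, B}
    (ht : t ∈ SymTen.TS A B d) : t ∈ cs B d := by
  obtain ⟨k, y, X, hX, hXt⟩ := exists_symmetric_preimage (R := A) (ι := Fin d) t ht
  have h1 : t = SymTen.tmap A d (extK y) (PiTensorProduct.map (fun _ => iotaK A k) X) := by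
    rw [tmap_eq_map, ← LinearMap.comp_apply, ← PiTensorProduct.map_comp]
    simp only [extK_comp_iotaK]
    exact hXt.symm
  have h2 : PiTensorProduct.map (fun _ => iotaK A k) X ∈ SymTen.TS A (Pk A k) d := by
    intro σ
    rw [← map_reindex_const, hX σ]
  rw [h1]
  exact tmap_mem_cs (extK y)
    (mem_coeffSpan_of_mem_TS (MvPolynomial.basisMonomials (ULift.{u} (Fin k)) A) h2)

theorem linFactor_eq_zero_of_tmap_eq_zero [Module.Flat A B] {C' : Type u} [CommRing C']
    [Algebra A C'] (F : PolLaw.MulLaw A B C' d)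
    (z : ⨂[A] _ : Fin d, MvPolynomial B A) (hz : z ∈ SymTen.TS A (MvPolynomial B A) d)
    (hπz : SymTen.tmap A d (piP A B) z = 0) :
    linFactor (MvPolynomial.basisMonomials B A) (F.precomp (piP A B)).law d z = 0 := by
  classical
  obtain ⟨F₀, i1, i2, i3, i4, g₀, Xs, hXs⟩ :=
    exists_common_source (R := A) (ι := Fin d) 1 (fun _ => z)
  obtain ⟨k₁, a₁, y₁, hg₁, hsym, -⟩ := exists_factorization_symmetric
    (M := MvPolynomial B A) g₀ 1 0 Xs (fun j => j.elim0)
    (fun j σ => by rw [hXs j]; exact hz σ) (fun j => j.elim0)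
  set X₁ := PiTensorProduct.map (fun _ => a₁) (Xs 0) with hX₁
  have hzX₁ : PiTensorProduct.map (fun _ => y₁) X₁ = z := by
    rw [hX₁, ← LinearMap.comp_apply, ← PiTensorProduct.map_comp, ← hg₁]
    exact hXs 0
  have h0 : PiTensorProduct.map (fun _ => (piP A B).toLinearMap ∘ₗ y₁) X₁ = 0 := by
    rw [PiTensorProduct.map_comp, LinearMap.comp_apply, hzX₁, ← tmap_eq_map]
    exact hπz
  obtain ⟨k₂, a₂, y₂, hg₂, -, hkill⟩ := exists_factorization_symmetric
    (M := B) ((piP A B).toLinearMap ∘ₗ y₁) 0 1 (fun j => j.elim0) (fun _ => X₁)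
    (fun j => j.elim0) (fun _ => h0)
  set yt₁ : Pk A k₁ →ₐ[A] MvPolynomial B A := extK y₁ with hyt₁
  set at₂ : Pk A k₁ →ₐ[A] Pk A k₂ := extK (iotaK A k₂ ∘ₗ a₂) with hat₂
  set yt₂ : Pk A k₂ →ₐ[A] B := extK y₂ with hyt₂
  have hcomm : (piP A B).comp yt₁ = yt₂.comp at₂ := by
    apply MvPolynomial.algHom_ext
    intro j
    have e1 : yt₂.toLinearMap (iotaK A k₂ (a₂ (Finsupp.single j.down 1))) =
        y₂ (a₂ (Finsupp.single j.down 1)) := by
      rw [← LinearMap.comp_apply, hyt₂, extK_comp_iotaK]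
    have e2 := LinearMap.congr_fun hg₂ (Finsupp.single j.down 1)
    rw [LinearMap.comp_apply, LinearMap.comp_apply] at e2
    rw [AlgHom.comp_apply, AlgHom.comp_apply, hyt₁, hat₂, extK_X, extK_X, LinearMap.comp_apply]
    exact e2.trans e1.symm
  set Xt₁ := PiTensorProduct.map (fun _ => iotaK A k₁) X₁ with hXt₁def
  have hXt₁ : Xt₁ ∈ cs (Pk A k₁) d :=
    mem_coeffSpan_of_mem_TS (MvPolynomial.basisMonomials (ULift.{u} (Fin k₁)) A)
      (fun σ => by rw [hXt₁def, ← map_reindex_const, hsym 0 σ])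
  have hz' : z = SymTen.tmap A d yt₁ Xt₁ := by
    rw [tmap_eq_map, hXt₁def, ← LinearMap.comp_apply, ← PiTensorProduct.map_comp]
    simp only [hyt₁, extK_comp_iotaK]
    exact hzX₁.symm
  have hagree : ∀ x ∈ cs (Pk A k₁) d,
      linFactor (MvPolynomial.basisMonomials B A) (F.precomp (piP A B)).law d
        (SymTen.tmap A d yt₁ x) =
      linFactor (MvPolynomial.basisMonomials (ULift.{u} (Fin k₂)) A) (F.precomp yt₂).law d
        (SymTen.tmap A d at₂ x) := by
    intro x hx
    induction hx using Submodule.span_induction with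
    | mem x hx =>
      obtain ⟨σ, m, I, ν, rfl⟩ := hx
      rw [tmap_coeff_tpowLaw, tmap_coeff_tpowLaw, linFactor_coeff_general,
        linFactor_coeff_general]
      show coeff (PolLaw.precomp F.law (piP A B).toLinearMap) _ I ν =
        coeff (PolLaw.precomp F.law yt₂.toLinearMap) _ I ν
      rw [coeff_precomp, coeff_precomp]
      congr 2
      funext i
      exact DFunLike.congr_fun hcomm (m i)
    | zero => simp
    | add x y _ _ hx hy => simp only [map_add, hx, hy]
    | smul a x _ hx => simp only [map_smul, hx]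
  rw [hz', hagree _ hXt₁]
  have h5 : SymTen.tmap A d at₂ Xt₁ = 0 := by
    rw [tmap_eq_map, hXt₁def, ← LinearMap.comp_apply, ← PiTensorProduct.map_comp]
    simp only [hat₂, extK_comp_iotaK]
    rw [PiTensorProduct.map_comp, LinearMap.comp_apply, hkill 0, map_zero]
  rw [h5, map_zero]

theorem exists_algHom_of_flat [Module.Flat A B]
    (C' : Type u) [CommRing C'] [Algebra A C'] (F : PolLaw.MulLaw A B C' d) :
    ∃ f : SymTen.TS A B d →ₐ[A] C', ∀ (σ : Type u) (m : σ → B) (I : Finset σ) (ν : σ →₀ ℕ)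
      (h : coeff (SymTen.tpowLaw A B d).law m I ν ∈ SymTen.TS A B d),
      f ⟨coeff (SymTen.tpowLaw A B d).law m I ν, h⟩ = coeff F.law m I ν := by
  classical
  set basP := MvPolynomial.basisMonomials B A with hbasP
  set Fπ : PolLaw.MulLaw A (MvPolynomial B A) C' d := F.precomp (piP A B) with hFπ
  set LP : (⨂[A] _ : Fin d, MvPolynomial B A) →ₗ[A] C' := linFactor basP Fπ.law d with hLPdef
  have hLP : ∀ (σ : Type u) (m : σ → MvPolynomial B A) (I : Finset σ) (ν : σ →₀ ℕ),
      LP (coeff (SymTen.tpowLaw A (MvPolynomial B A) d).law m I ν) =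
        coeff F.law (fun i => piP A B (m i)) I ν := by
    intro σ m I ν
    rw [hLPdef, linFactor_coeff_general basP Fπ]
    show coeff (PolLaw.precomp F.law (piP A B).toLinearMap) m I ν = _
    rw [coeff_precomp]
    rfl
  let LP' : SymTen.TS A (MvPolynomial B A) d →ₐ[A] C' :=
    AlgHom.ofLinearMap (LP ∘ₗ (SymTen.TS A (MvPolynomial B A) d).val.toLinearMap)
      (linFactor_one basP Fπ)
      (fun x y => linFactor_mul basP Fπ (mem_coeffSpan_of_mem_TS basP x.2)
        (mem_coeffSpan_of_mem_TS basP y.2))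
  let q : SymTen.TS A (MvPolynomial B A) d →ₐ[A] SymTen.TS A B d := SymTen.TSmap A d (piP A B)
  have hq : Function.Surjective q := by
    intro t
    obtain ⟨k, y, X, hX, hXt⟩ := exists_symmetric_preimage (R := A) (ι := Fin d) t.1 t.2
    obtain ⟨yl, hyl⟩ := Module.projective_lifting_property (piP A B).toLinearMap y
      piP_surjective
    refine ⟨⟨PiTensorProduct.map (fun _ => yl) X, fun σ => by
      rw [← map_reindex_const, hX σ]⟩, Subtype.ext ?_⟩
    show SymTen.tmap A d (piP A B) (PiTensorProduct.map (fun _ => yl) X) = t.1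
    rw [tmap_eq_map, ← LinearMap.comp_apply, ← PiTensorProduct.map_comp, hyl]
    exact hXt
  have hker : RingHom.ker q.toRingHom ≤ RingHom.ker LP'.toRingHom := by
    intro z hz
    rw [RingHom.mem_ker] at hz ⊢
    exact linFactor_eq_zero_of_tmap_eq_zero F z.1 z.2 (congrArg Subtype.val hz)
  refine ⟨AlgHom.liftOfSurjective q hq LP' hker, fun σ m I ν h => ?_⟩
  choose mt hmt using fun i => piP_surjective (A := A) (m i)
  have h1 : (⟨coeff (SymTen.tpowLaw A B d).law m I ν, h⟩ : SymTen.TS A B d) =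
      q ⟨coeff (SymTen.tpowLaw A (MvPolynomial B A) d).law mt I ν,
        cs_le_TS (coeff_mem_coeffSpan _ _ _ _)⟩ := by
    apply Subtype.ext
    show coeff (SymTen.tpowLaw A B d).law m I ν = SymTen.tmap A d (piP A B)
      (coeff (SymTen.tpowLaw A (MvPolynomial B A) d).law mt I ν)
    rw [tmap_coeff_tpowLaw]
    congr 2
    funext i
    exact (hmt i).symm
  rw [h1, AlgHom.liftOfSurjective_apply]
  show LP (coeff (SymTen.tpowLaw A (MvPolynomial B A) d).law mt I ν) = _
  rw [hLP]
  congr 2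
  funext i
  exact hmt i

/-- **`TS^d_A(B)` is `Γ^d_A(B)`** when `B` is flat over `A` or `d!` is invertible in `A`. -/
theorem exists_isGammaD_TS_of_flat_or_isUnit
    (h : Module.Flat A B ∨ IsUnit ((d.factorial : ℕ) : A)) :
    ∃ τ : PolLaw.MulLaw A B (SymTen.TS A B d) d,
      (∀ (S : Type u) [CommSemiring S] [Algebra A S] (n : ℕ) (s : Fin n → S) (b : Fin n → B),
        (SymTen.TS A B d).val.toLinearMap.lTensor S (τ.law.toFun' S (∑ j, s j ⊗ₜ[A] b j)) =
          ∑ c : Fin d → Fin n, (∏ i, s (c i)) ⊗ₜ[A] PiTensorProduct.tprod A (fun i => b (c i))) ∧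
      PolLaw.IsGammaD τ := by
  rcases h with h | h
  · exact exists_isGammaD_TS (fun t ht => mem_cs_of_mem_TS_of_flat ht)
      (fun C' _ _ F => exists_algHom_of_flat C' F)
  · exact exists_isGammaD_TS (fun t ht => mem_cs_of_mem_TS_of_isUnit h ht)
      (fun C' _ _ F => exists_algHom_of_isUnit h C' F)

end PartB

end Groth.Agent.Lib.Helper16.FlatTensor
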