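import Groth.Agent.Lib.Helper16.FlatTensor.ElemSym
import Groth.Agent.Lib.Helper16.NormLaw.BCTensor
import Mathlib.RingTheory.Invariant.Basic
import Mathlib.RingTheory.Adjoin.Tower

/-!
# Finite generation of `TS^d` and of `Γ^d` (helper16)

* `finiteType_tensorPower`: `T^d_R(P)` is of finite type if `P` is.
* `isIntegral_TS`, `finite_TS`: `T^d_R(P)` is integral (finite, for `P` of finite type) over
  `TS^d_R(P)`.
* `TS_fg_of_isNoetherianRing`: `TS^d_R(P)` is a finitely generated algebra over a noetherian `R`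
  (Artin--Tate).
* `TS_fg_baseChange`: for `P₀` free of finite type over a noetherian `A₀`,
  `TS^d_A(A ⊗ P₀)` is finitely generated over any `A₀`-algebra `A`.
* `finiteType_of_isGammaD`: `Γ^d_A(B)` is of finite type if `B` is.
-/

set_option autoImplicit false

namespace Groth.Agent.Lib.Helper16.FlatTensor
open scoped TensorProduct
open Groth.Agent.Lib.Helper25.PolLawCoeff Groth.Agent.Lib.Helper16.NormLaw
universe u

section FT
variable {R : Type u} [CommRing R] {P : Type u} [CommRing P] [Algebra R P] {d : ℕ}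

theorem tprod_eq_prod_single (f : Fin d → P) :
    PiTensorProduct.tprod R f =
      ∏ l, PiTensorProduct.singleAlgHom (R := R) (A := fun _ : Fin d => P) l (f l) := by
  classical
  simp only [PiTensorProduct.singleAlgHom_apply, MonoidHom.mulSingle_apply]
  rw [← PiTensorProduct.tprod_prod]
  exact (congrArg _ (Finset.univ_prod_mulSingle f)).symm

theorem finiteType_tensorPower [Algebra.FiniteType R P] :
    Algebra.FiniteType R (⨂[R] _ : Fin d, P) := by
  classical
  obtain ⟨s, hs⟩ := (Algebra.FiniteType.out : (⊤ : Subalgebra R P).FG)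
  refine ⟨⟨(Finset.univ ×ˢ s).image (fun p : Fin d × P =>
    PiTensorProduct.singleAlgHom (R := R) (A := fun _ : Fin d => P) p.1 p.2), ?_⟩⟩
  rw [eq_top_iff]
  intro t ht
  clear ht
  induction t using PiTensorProduct.induction_on with
  | smul_tprod r f =>
    refine Subalgebra.smul_mem _ ?_ r
    rw [tprod_eq_prod_single]
    refine Subalgebra.prod_mem _ fun l _ => ?_
    have h1 : f l ∈ Algebra.adjoin R (s : Set P) := by rw [hs]; trivial
    have h2 : PiTensorProduct.singleAlgHom (R := R) (A := fun _ : Fin d => P) l (f l) ∈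
        (Algebra.adjoin R (s : Set P)).map
          (PiTensorProduct.singleAlgHom (R := R) (A := fun _ : Fin d => P) l) :=
      ⟨f l, h1, rfl⟩
    rw [AlgHom.map_adjoin] at h2
    refine Algebra.adjoin_mono ?_ h2
    rintro _ ⟨x, hx, rfl⟩
    rw [Finset.coe_image]
    exact ⟨(l, x), by simpa using hx, rfl⟩
  | add x y hx hy => exact Subalgebra.add_mem _ hx hy

variable (R P d) in
/-- the permutation action on the tensor power -/
@[instance_reducible]
noncomputable def permAction : MulSemiringAction (Equiv.Perm (Fin d)) (⨂[R] _ : Fin d, P) where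
  smul σ t := SymTen.perm R P d σ t
  one_smul t := by
    show SymTen.perm R P d 1 t = t
    rw [SymTen.perm_apply]
    induction t using PiTensorProduct.induction_on with
    | smul_tprod r f => rw [map_smul, PiTensorProduct.reindex_tprod]; rfl
    | add x y hx hy => rw [map_add, hx, hy]
  mul_smul σ τ t := by
    show SymTen.perm R P d (σ * τ) t = SymTen.perm R P d σ (SymTen.perm R P d τ t)
    rw [perm_mul]
    rfl
  smul_zero σ := map_zero _
  smul_add σ x y := map_add _ _ _
  smul_one σ := map_one _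
  smul_mul σ x y := map_mul _ _ _

theorem isIntegral_TS : Algebra.IsIntegral (SymTen.TS R P d) (⨂[R] _ : Fin d, P) := by
  let _ := permAction R P d
  have : Algebra.IsInvariant (SymTen.TS R P d) (⨂[R] _ : Fin d, P) (Equiv.Perm (Fin d)) := by
    refine ⟨fun b hb => ⟨⟨b, fun σ => ?_⟩, rfl⟩⟩
    rw [← SymTen.perm_apply]
    exact hb σ
  exact Algebra.IsInvariant.isIntegral (SymTen.TS R P d) (⨂[R] _ : Fin d, P)
    (Equiv.Perm (Fin d))

theorem finite_TS [Algebra.FiniteType R P] :
    Module.Finite (SymTen.TS R P d) (⨂[R] _ : Fin d, P) := by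
  have := finiteType_tensorPower (R := R) (P := P) (d := d)
  have := isIntegral_TS (R := R) (P := P) (d := d)
  have : Algebra.FiniteType (SymTen.TS R P d) (⨂[R] _ : Fin d, P) :=
    Algebra.FiniteType.of_restrictScalars_finiteType R _ _
  exact Algebra.IsIntegral.finite

/-- **Finite generation of symmetric tensors over a noetherian base** (Artin--Tate). -/
theorem TS_fg_of_isNoetherianRing [IsNoetherianRing R] [Algebra.FiniteType R P] :
    (SymTen.TS R P d).FG := by
  have := finiteType_tensorPower (R := R) (P := P) (d := d)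
  have := finite_TS (R := R) (P := P) (d := d)
  rw [← Subalgebra.fg_top]
  exact fg_of_fg_of_fg R (SymTen.TS R P d) (⨂[R] _ : Fin d, P) Algebra.FiniteType.out
    Module.Finite.fg_top Subtype.val_injective

end FT

section BC
variable {A₀ : Type u} [CommRing A₀] {A : Type u} [CommRing A] [Algebra A₀ A]
  {P₀ : Type u} [CommRing P₀] [Algebra A₀ P₀] {d : ℕ} {J : Type u}

theorem bcT_mem_adjoin {s₀ : Set (⨂[A₀] _ : Fin d, P₀)} {x : ⨂[A₀] _ : Fin d, P₀}
    (hx : x ∈ Algebra.adjoin A₀ s₀) :
    bcT A₀ A P₀ d x ∈ Algebra.adjoin A (bcT A₀ A P₀ d '' s₀) := by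
  induction hx using Algebra.adjoin_induction with
  | mem x hx => exact Algebra.subset_adjoin ⟨x, hx, rfl⟩
  | algebraMap r =>
    rw [AlgHom.commutes, IsScalarTower.algebraMap_apply A₀ A]
    exact Subalgebra.algebraMap_mem _ _
  | add x y _ _ hx hy => rw [map_add]; exact Subalgebra.add_mem _ hx hy
  | mul x y _ _ hx hy => rw [map_mul]; exact Subalgebra.mul_mem _ hx hy

/-- symmetric tensors of a base-changed free algebra are generated by the image of the symmetric
tensors over the base -/
theorem TS_baseChange_eq_adjoin (bas₀ : Module.Basis J A₀ P₀) {s₀ : Set (⨂[A₀] _ : Fin d, P₀)}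
    (hs₀ : Algebra.adjoin A₀ s₀ = SymTen.TS A₀ P₀ d) :
    SymTen.TS A (A ⊗[A₀] P₀) d = Algebra.adjoin A (bcT A₀ A P₀ d '' s₀) := by
  classical
  apply le_antisymm
  · intro t ht
    set bas := Algebra.TensorProduct.basis A bas₀ with hbas
    have h1 := mem_coeffSpan_of_mem_TS bas ht
    have hle : coeffSpan (SymTen.tpowLaw A (A ⊗[A₀] P₀) d).law ≤
        Subalgebra.toSubmodule (Algebra.adjoin A (bcT A₀ A P₀ d '' s₀)) := by
      refine Submodule.span_le.2 ?_
      rintro _ ⟨σ, m, I, ν, rfl⟩
      set K : Finset J := I.biUnion (fun i => (bas.repr (m i)).support) with hK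
      set a : σ → J → A := fun i j => bas.repr (m i) j with ha
      set g : J → A ⊗[A₀] P₀ := fun j => (1 : A) ⊗ₜ[A₀] bas₀ j with hg
      have hm : ∀ i ∈ I, m i = ∑ j ∈ K, a i j • g j := by
        intro i hi
        have hsub : (bas.repr (m i)).support ⊆ K := by
          intro j hj
          rw [hK, Finset.mem_biUnion]
          exact ⟨i, hi, hj⟩
        conv_lhs => rw [← bas.linearCombination_repr (m i), Finsupp.linearCombination_apply,
          Finsupp.sum]
        rw [Finset.sum_subset hsub]
        · refine Finset.sum_congr rfl fun j _ => ?_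
          rw [hbas, Algebra.TensorProduct.basis_apply]
        · intro j _ hj
          rw [Finsupp.notMem_support_iff.1 hj, zero_smul]
      rw [coeff_congr _ I hm]
      have hmem := coeff_linearCombination_mem (SymTen.tpowLaw A (A ⊗[A₀] P₀) d).law g K a I ν
      refine (Submodule.span_le.2 ?_ : Submodule.span A _ ≤ _) hmem
      rintro _ ⟨μ, rfl⟩
      show coeff (SymTen.tpowLaw A (A ⊗[A₀] P₀) d).law (fun j => (1 : A) ⊗ₜ[A₀] bas₀ j) K μ ∈ _
      rw [← bcT_coeff_tpowLaw]
      refine bcT_mem_adjoin ?_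
      rw [hs₀]
      exact cs_le_TS (coeff_mem_coeffSpan _ _ _ _)
    exact hle h1
  · refine Algebra.adjoin_le ?_
    rintro _ ⟨t, ht, rfl⟩
    refine bcT_mem_TS A₀ A P₀ d ?_
    rw [← hs₀]
    exact Algebra.subset_adjoin ht

theorem TS_fg_baseChange [IsNoetherianRing A₀] [Algebra.FiniteType A₀ P₀]
    (bas₀ : Module.Basis J A₀ P₀) : (SymTen.TS A (A ⊗[A₀] P₀) d).FG := by
  classical
  obtain ⟨s₀, hs₀⟩ := TS_fg_of_isNoetherianRing (R := A₀) (P := P₀) (d := d)
  refine ⟨s₀.image (bcT A₀ A P₀ d), ?_⟩
  rw [Finset.coe_image]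
  exact (TS_baseChange_eq_adjoin bas₀ hs₀).symm

end BC

section Gamma
variable {A : Type u} [CommRing A] {B : Type u} [CommRing B] [Algebra A B] {C : Type u}
  [CommRing C] [Algebra A C] {d : ℕ}

/-- the image of a generating set of `TS^d_A(P)` under the linear factorisation generates `C` -/
theorem fg_of_lin_surjective {P : Type u} [CommRing P] [Algebra A P] {J : Type u}
    (bas : Module.Basis J A P) (γ : PolLaw.MulLaw A B C d) (hγ : PolLaw.IsGammaD γ)
    (π : P →ₐ[A] B) (hπ : Function.Surjective π) (hfg : (SymTen.TS A P d).FG) :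
    Algebra.FiniteType A C := by
  classical
  obtain ⟨s, hs⟩ := hfg
  set lin := linFactor bas (γ.precomp π).law d with hlin
  have key : ∀ x ∈ Algebra.adjoin A (s : Set (⨂[A] _ : Fin d, P)),
      lin x ∈ Algebra.adjoin A (lin '' (s : Set (⨂[A] _ : Fin d, P))) := by
    intro x hx
    induction hx using Algebra.adjoin_induction with
    | mem x hx => exact Algebra.subset_adjoin ⟨x, hx, rfl⟩
    | algebraMap a =>
      rw [Algebra.algebraMap_eq_smul_one, map_smul, hlin, linFactor_one]
      exact Subalgebra.smul_mem _ (Subalgebra.one_mem _) a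
    | add x y _ _ hx hy => rw [map_add]; exact Subalgebra.add_mem _ hx hy
    | mul x y hx' hy' hx hy =>
      have hxc : x ∈ coeffSpan (SymTen.tpowLaw A P d).law := by
        refine mem_coeffSpan_of_mem_TS bas ?_
        rw [← hs]
        exact hx'
      have hyc : y ∈ coeffSpan (SymTen.tpowLaw A P d).law := by
        refine mem_coeffSpan_of_mem_TS bas ?_
        rw [← hs]
        exact hy'
      rw [hlin, linFactor_mul bas (γ.precomp π) hxc hyc]
      exact Subalgebra.mul_mem _ hx hy
  refine ⟨⟨s.image lin, ?_⟩⟩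
  rw [eq_top_iff, Finset.coe_image]
  intro c _
  obtain ⟨x, hx, rfl⟩ := lin_surjective bas γ hγ π hπ c
  refine key x ?_
  rw [hs]
  exact cs_le_TS hx

/-- **`Γ^d_A(B)` is of finite type over `A` if `B` is.** -/
theorem finiteType_of_isGammaD (γ : PolLaw.MulLaw A B C d) (hγ : PolLaw.IsGammaD γ)
    [Algebra.FiniteType A B] : Algebra.FiniteType A C := by
  classical
  obtain ⟨r, f, hf⟩ := Algebra.FiniteType.iff_quotient_mvPolynomial''.1
    (inferInstance : Algebra.FiniteType A B)
  set A₀ : Subring A := (Int.castRingHom A).range with hA₀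
  have : IsNoetherianRing A₀ :=
    isNoetherianRing_of_surjective ℤ A₀ (Int.castRingHom A).rangeRestrict
      (Int.castRingHom A).rangeRestrict_surjective
  let π₀ : MvPolynomial (ULift.{u} (Fin r)) A₀ →ₐ[A₀] B :=
    MvPolynomial.aeval (fun i => f (MvPolynomial.X i.down))
  let π : A ⊗[A₀] MvPolynomial (ULift.{u} (Fin r)) A₀ →ₐ[A] B :=
    Algebra.TensorProduct.lift (Algebra.ofId A B) π₀ (fun _ _ => Commute.all _ _)
  have hπ : Function.Surjective π := by
    rw [← AlgHom.range_eq_top, eq_top_iff, ← (AlgHom.range_eq_top f).2 hf]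
    have hfe : f = MvPolynomial.aeval (fun i => f (MvPolynomial.X i)) :=
      MvPolynomial.aeval_unique f
    rw [hfe, ← Algebra.adjoin_range_eq_range_aeval]
    refine Algebra.adjoin_le ?_
    rintro _ ⟨i, rfl⟩
    refine ⟨(1 : A) ⊗ₜ[A₀] MvPolynomial.X (ULift.up i), ?_⟩
    show π ((1 : A) ⊗ₜ[A₀] MvPolynomial.X (ULift.up i)) = _
    rw [Algebra.TensorProduct.lift_tmul, map_one, one_mul, MvPolynomial.aeval_X]
  exact fg_of_lin_surjective
    (Algebra.TensorProduct.basis A (MvPolynomial.basisMonomials (ULift.{u} (Fin r)) A₀)) γ hγ π hπ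
    (TS_fg_baseChange (MvPolynomial.basisMonomials (ULift.{u} (Fin r)) A₀))

end Gamma

end Groth.Agent.Lib.Helper16.FlatTensor
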